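import Cfsg.Agent.F24V.Fx
import Cfsg.Agent.Loc.TT
import Cfsg.Agent.Transfer.Residual

/-! The index of `X0` in the image of `C(z)` is `2` when `O²(G) = G` and `z` is fused in `E` (helper8): `St.not_four`. -/

set_option autoImplicit false
set_option linter.unusedSectionVars false
set_option maxRecDepth 100000

namespace Cfsg.Agent.F24T.V
open Cfsg.Agent.Comp Subgroup Cfsg.Agent.BG LES MulAction J4T Known

theorem ρρ : tρ * tρ = 1 :=
  isCanon_IR.func (isGrp_IR.mul IRρ IRρ) ((by decide +kernel : mulM cρ cρ = one12).symm ▸ isGrp_IR.one)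
theorem ττ : tτ * tτ = 1 :=
  isCanon_IR.func (isGrp_IR.mul IRτ IRτ) ((by decide +kernel : mulM cτ cτ = one12).symm ▸ isGrp_IR.one)
theorem ρκ : tτ⁻¹ = tρ * tκ⁻¹ := isCanon_IR.func IRτ.inv
  ((by decide +kernel : mulM cρ (invM cκ) = invM cτ) ▸ isGrp_IR.mul IRρ IRκ.inv)
theorem ρXs : tρ ∈ Xs := subset_closure ⟨cρ, by simp [LX, LXc], IRρ⟩

theorem memXs (n : tρ ∈ normalizer (X0 : Set GL')) {g : GL'} (hg : g ∈ Xs) : g ∈ X0 ∨ tρ * g ∈ X0 := by
  have k : ∀ x, x ∈ X0 ∨ x = tρ → ∀ y, y ∈ X0 ∨ tρ * y ∈ X0 → x * y ∈ X0 ∨ tρ * (x * y) ∈ X0 := by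
    rintro x (h | rfl) y k
    · exact k.imp (mul_mem h) fun k => by simpa [mul_assoc] using mul_mem (Comp.conj_mem_of_norm n h) k
    · rw [← mul_assoc, ρρ, one_mul]; exact k.symm
  have m : ∀ x ∈ genSet IR LX, x ∈ X0 ∨ x = tρ := fun x ⟨c, hc, h⟩ => by
    rcases List.mem_append.1 (show c ∈ LX0 ++ [cρ] from hc) with e | e
    exacts [.inl (subset_closure ⟨c, e, h⟩), .inr (isCanon_IR.func h (List.mem_singleton.1 e ▸ IRρ))]
  exact closure_induction_left (p := fun g _ => g ∈ X0 ∨ tρ * g ∈ X0) (.inl (one_mem _)) (fun x hx y _ => k x (m x hx) y)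
    (fun x hx y _ => k _ ((m x hx).imp inv_mem fun e => by rw [e, inv_eq_of_mul_eq_one_right ρρ]) y) hg

theorem τXs (n : tρ ∈ normalizer (X0 : Set GL')) : tτ ∉ Xs := fun h => by
  rcases memXs n h with h | h
  · have := fix256 h ττ fun e => absurd (isCanon_IR.canon (e ▸ IRτ) isGrp_IR.one) (by decide +kernel)
    rw [fixτ] at this; omega
  · exact absurd ((commC_iff isGrp_IR isCanon_IR (isGrp_IR.mul IRρ IRτ) IR_wA).1 (mem_Cw.1 (X0_Cw h))) (by decide +kernel)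

def LY0 : List ℕ := [0x800400200100080040002001020010008004, 0x54bfc6f36a2d8ad45b2ad15b558ff4ff2aa1]

theorem stab0 {W : Subgroup GL'} (h : ∀ a ∈ X0 ⊓ stabilizer GL' (XV.mk' 12 s0), a ^ 15 = 1 → a ∈ W) :
    X0 ⊓ stabilizer GL' (XV.mk' 12 s0) ≤ W := by
  set Y := X0 ⊓ stabilizer GL' (XV.mk' 12 s0)
  have cY : CodesIn IR LY0 Y := fun c hc =>
    let ⟨g, a, b⟩ := (isGrp_IR.mapW codesX0 [[2], [5, 6, 1, 3, 5, 6]]).of_subset (L' := LY0) (by decide +kernel) c hc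
    ⟨g, ⟨a, (b.1.mk'_eq (by decide)).trans (congrArg _ ((by decide +kernel : ∀ c ∈ LY0, app c s0 = s0) c hc))⟩, b⟩
  have h1 : #Y ≤ 5760 := by
    have h1 := card_eq_ncard_orbit_mul X0 (XV.mk' 12 s0)
    have h2 := (show 1701 ≤ _ by decide +kernel).trans (orbV_le codesX0.toMR 1800 (a := s0) (by decide))
    have := Nat.mul_le_mul_right #Y h2
    rw [← h1, card_X0] at this
    omega
  rw [← eq_of_le_of_card_ge (cY.closure_le isCanon_IR.func) (h1.trans (le_trans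
    (by decide +kernel) (chainM_le_card (B := [290, 1]) (by decide +kernel) (isGrp_IR.slpW [[0, 3, 3, 0, 2, 2, 1],
      [0, 2, 0, 3, 1, 2, 1, 3]] cY.closure).toMR 700)))]
  refine (closure_le _).2 fun a ⟨c, hc, r⟩ => h a (cY.closure_le isCanon_IR.func (subset_closure ⟨c, hc, r⟩)) ?_
  exact isCanon_IR.func (isGrp_IR.pow r 15)
    (((by decide +kernel : ∀ c ∈ LY0, powC mulM one12 c 15 = one12) c hc).symm ▸ isGrp_IR.one)

def tp : ℕ := 0x85a4f52af15ae8f94ae2f91a9527f19587f4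

theorem exP9 {X : Subgroup GL'} (h1 : Xs ≤ X) (h2 : tτ ∈ X) :
    ∃ P ≤ X ⊓ stabilizer GL' (XV.mk' 12 s0), #P = 2 ^ 9 ∧ Lists IR (LT ++ mapL (mulM tp) LT) P :=
  sylP (B := [45, 256]) (L := LTg ++ [tp]) ((codesTg.mono (Ts_le.trans (Bs_le.trans h1))).append
    ((isGrp_IR.mapW ((codesX0.mono (X0_le.trans h1)).append (CodesIn.cons h2 IRτ (L := []) fun _ h => nomatch h))
      [[1, 3, 4, 6, 8, 1, 4, 6, 3, 1, 5, 10]]).of_subset (by decide +kernel)))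
    [[0], [2], [4], [6], [8], [10], [12], [14], [0, 14, 6], [6, 2, 10]] (by decide) (by decide +kernel)

variable {G : Type*} [Group G] [Finite G] {z p g : G}

theorem sylC {Q : Subgroup G} (L : LE Q z) : ∃ P : Sylow 2 G, Q ≤ P ∧ ∀ x ∈ P.1, Commute x z := by
  obtain ⟨P, hP⟩ := L.pg.exists_le_sylow
  have : Nontrivial P := ⟨⟨_, hP L.zQ⟩, 1, fun e => L.z1 (congrArg Subtype.val e)⟩
  have := P.2.center_nontrivial
  obtain ⟨c, hc⟩ := exists_ne (1 : center P)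
  have k := (L.cQ c fun y hy => congrArg Subtype.val (mem_center_iff.1 c.2 ⟨y, hP hy⟩).symm).resolve_left
    fun e => hc (Subtype.ext (Subtype.ext e))
  exact ⟨P, hP, fun x hx => k ▸ congrArg Subtype.val (mem_center_iff.1 c.2 ⟨x, hx⟩)⟩

theorem oddC {Q : Subgroup G} (L : LE Q z) : Odd C1[z].index := by
  obtain ⟨P, -, h⟩ := sylC L
  exact Nat.not_even_iff_odd.1 fun e => P.not_dvd_index
    (e.two_dvd.trans (index_dvd_of_le fun x hx => mem_cent1.2 (h x hx)))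

variable {θ : ℕ → G} {μ : centralizer ({z} : Set G) →* MulAut (XV 12)} {X : Subgroup (MulAut (XV 12))}

def H0 (μ : centralizer ({z} : Set G) →* MulAut (XV 12)) : Subgroup G := (Xs.comap μ).map C1[z].subtype

namespace St
variable (S : St X z p θ μ)
include S

theorem to_s0 (h4 : g * z * g⁻¹ ∈ twoCoreOfCentralizer z) (h5 : g * z * g⁻¹ ≠ z) :
    ∃ h ∈ C1[z], h * g * z * (h * g)⁻¹ = θ s0 := by
  obtain ⟨x, hx, e⟩ := (S.core _).1 h4
  have o : orderOf (θ x) = 2 := e ▸ (Invol.orderOf_conj' g z).trans S.toFr.oz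
  obtain ⟨h, m, h6 | h6⟩ := S.inv_E S.lo hx (by rintro rfl; exact Invol.ne_one_of o S.toFr.θ0)
    (by rintro rfl; exact h5 (e.symm.trans S.hz)) (by
      have := (S.toFr.sq hx).symm.trans (Invol.mul_self_of o)
      have l := bt_lt x x
      interval_cases bt x x
      exacts [rfl, absurd ((pow_one z).symm.trans this) S.toFr.z1])
  · exact ⟨h, m, by rw [← h6, e]; group⟩
  · exact absurd (isConj_iff.2 ⟨h * g, by rw [← h6, e]; group⟩) S.not_fused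

theorem exA (hg : g * z * g⁻¹ = θ s0) : ∃ a : C1[z], a.1 ∈ cj g (twoCoreOfCentralizer z) ∧ μ a ∉ X0 := by
  by_contra! h
  obtain ⟨P, hP, c, l⟩ := exP7
  have h1 := (S.lists_AB (by decide) (by decide) hg S.lo hP c
    (fun h => absurd (h.trans (card_dvd_of_le inf_le_left)) (by rw [card_X0]; norm_num)) l codesX0 (w := [5, 6, 1, 3, 5, 6])
    (by decide +kernel)).card_le isCanon_IR.func
  rw [show lenL _ = 16 by decide +kernel, inf_eq_left.2 (by rintro _ ⟨a, ha, rfl⟩; exact h a ha)] at h1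
  have h2 := S.le_AB (by decide) (by decide) hg
  omega

theorem comm0 {N : Subgroup G} (hN : N ≤ twoCoreOfCentralizer z) (hz : z ∈ N) (hc : 256 ≤ #N) (h : cj g N ≤ C1[z]) :
    ∃ m : g * z * g⁻¹ ∈ C1[z], μ ⟨_, m⟩ ∈ X0 := by
  obtain ⟨a, ha, b, hb, e⟩ := Small.Xs.nonab S.es hN hz (by rw [S.card_E]; nlinarith)
  refine ⟨h ⟨z, hz, rfl⟩, ?_⟩
  let a' : C1[z] := ⟨g * a * g⁻¹, h ⟨a, ha, rfl⟩⟩
  let b' : C1[z] := ⟨g * b * g⁻¹, h ⟨b, hb, rfl⟩⟩
  have := mul_mem (mul_mem (S.sqX (S.μ_mem b'⁻¹)) (S.sqX (S.μ_mem (b' * a'⁻¹)))) (S.sqX (S.μ_mem a'))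
  simp only [← map_mul] at this
  convert this using 2
  exact Subtype.ext (by simp only [← e, a', b', coe_mul, coe_inv]; group)

section
variable (i4 : X0.relIndex X = 4)
include i4

theorem τρ : tτ ∈ X ∧ tρ ∈ X := by
  constructor <;> by_contra n
  · have := idx_le (K := X0) (X := X) [1, tκ, tρ] fun g hg => by
      obtain ⟨t, h1, h2, h3⟩ := S.four hg
      exact ⟨t, by simpa [show t ≠ tτ from fun e => n (e ▸ h2)] using h1, h3⟩
    simp [i4] at this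
  · have := idx_le (K := X0) (X := X) [1, tτ, tκ] fun g hg => by
      obtain ⟨t, h1, h2, h3⟩ := S.four hg
      exact ⟨t, by simpa [show t ≠ tρ from fun e => n (e ▸ h2)] using h1, h3⟩
    simp [i4] at this

theorem Xs_le' : Xs ≤ X := ((codesX0.mono S.lo).append
  (CodesIn.cons (S.τρ i4).2 IRρ (L := []) fun _ h => nomatch h)).closure_le isCanon_IR.func

theorem τXs' : tτ ∉ Xs := τXs (S.nx _ (S.τρ i4).2).1

theorem i2 : Xs.relIndex X = 2 := by
  have h1 := idx_le (K := Xs) (X := X) [1, tτ] fun g hg => by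
    obtain ⟨t, h1, h2, h3⟩ := S.four hg
    replace h3 := X0_le h3
    simp only [List.mem_cons, List.not_mem_nil, or_false, exists_eq_or_imp, exists_eq_left] at h1 ⊢
    rcases h1 with rfl | rfl | rfl | rfl
    exacts [.inl h3, .inr h3, .inr (by rw [ρκ, mul_assoc]; exact mul_mem ρXs h3), .inl (by simpa using mul_mem ρXs h3)]
  have h2 := relIndex_pos Xs X
  have h3 : Xs.relIndex X ≠ 1 := fun e => S.τXs' i4 (relIndex_eq_one.1 e (S.τρ i4).1)
  simp at h1; omega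

theorem A0 (hg : g * z * g⁻¹ = θ s0) : AB μ g ≤ Xs := fun a ha => by
  obtain ⟨P, hP, c, l⟩ := exP9 (S.Xs_le' i4) (S.τρ i4).1
  have h0 := card_mul_relIndex S.lo
  rw [i4, card_X0] at h0
  obtain ⟨c, h1, h2⟩ := S.lists_AB (by decide) (by decide) hg le_rfl hP c
    (fun h => absurd (h.trans (card_dvd_of_le inf_le_left)) (by rw [← h0]; norm_num)) l (codesX0.mono S.lo)
    (w := [5, 6, 1, 3, 5, 6]) (by decide +kernel) a ⟨ha, S.AB_le ha⟩
  obtain ⟨b, hb, h3⟩ := codesT c (memL_iff.1 (allL_iff.1 (by decide +kernel :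
    allL (surv (LT ++ mapL (mulM tp) LT) LX0 [5, 6, 1, 3, 5, 6]) (fun c => memL c LT) = true) c h1))
  exact isCanon_IR.func h3 h2 ▸ Bs_le (Ts_le hb)

theorem j2 : (H0 μ).relIndex C1[z] = 2 := by
  rw [relIndex, H0, subgroupOf, comap_map_eq_self_of_injective (subtype_injective _), index_comap, S.range, S.i2 i4]

theorem cj0 {h y : G} (hh : h ∈ C1[z]) : h * y * h⁻¹ ∈ H0 μ ↔ y ∈ H0 μ := by
  have n := (normal_subgroupOf_iff_le_normalizer (map_subtype_le _)).1 (normal_of_index_eq_two (S.j2 i4)) hh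
  exact (mem_normalizer_iff.1 n y).symm

theorem A1 (h4 : g * z * g⁻¹ ∈ twoCoreOfCentralizer z) (h5 : g * z * g⁻¹ ≠ z) {a : G} (hz : a ∈ C1[z])
    (ha : a ∈ cj g (twoCoreOfCentralizer z)) : a ∈ H0 μ := by
  obtain ⟨h, m, e⟩ := S.to_s0 h4 h5
  rw [← S.cj0 i4 m]
  exact ⟨⟨_, mul_mem (mul_mem m hz) (inv_mem m)⟩, S.A0 i4 e ⟨_, by simpa [mem_subgroupOf, mem_cj, mul_assoc] using ha, rfl⟩, rfl⟩

theorem L0 (hg : g * z * g⁻¹ = θ s0) {y : G} (hy : y ∈ H0 μ) (c : y ∈ C1[θ s0]) : g⁻¹ * y * g ∈ H0 μ := by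
  have Q := S.pair (by decide) (by decide) hg
  have t : ∀ {y}, y ∈ C1[θ s0] → g⁻¹ * y * g ∈ C1[z] := fun h => mem_cj.1 (by rwa [← C1_conj, hg])
  let W := (C1[θ s0] ⊓ cj g (H0 μ)).subgroupOf C1[z]
  have q : ∀ y : C1[z], y.1 ∈ C1[θ s0] → μ y = 1 → y ∈ W := fun y c h => ⟨c, mem_cj.2 (S.A1 i4 (g := g⁻¹)
    (by simpa using mem_cj.1 Q.sQ) (fun e => Q.ne (by rw [← hg]; nth_rw 2 [← e]; group)) (t c)
    (mem_cj.2 (by simpa [mul_assoc] using (S.ker y).1 h)))⟩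
  have k : ∀ y : C1[z], y.1 ∈ C1[θ s0] → μ y ∈ X0 → y ∈ W := fun y c h => by
    obtain ⟨w, hw, e⟩ := stab0 (W := W.map μ) (fun a ha h => by
      obtain ⟨k, rfl, e⟩ := S.conj_of (s := s0) (x := s0) (by decide) (by decide) (by decide) (S.lo ha.1)
        (by rw [show a _ = _ from ha.2]; rfl)
      have c : k.1 ∈ C1[θ s0] := mem_cent1.2 (mul_inv_eq_iff_eq_mul.1 e)
      have h2 : k ^ 2 ∈ W := ⟨pow_mem c 2, mem_cj.2 (by
        simpa [pow_two, mul_assoc] using (Invol.mul_mem_iff_of_relIndex_two (S.j2 i4) (t c) (t c)).2 Iff.rfl)⟩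
      refine ⟨k, ?_, rfl⟩
      rw [show k = k ^ 15 * ((k ^ 2) ^ 7)⁻¹ by group]
      exact mul_mem (q (k ^ 15) (pow_mem c 15) (by rw [map_pow, h])) (inv_mem (pow_mem h2 7)))
      (show μ y ∈ _ from ⟨h, by
        obtain ⟨d, hc⟩ := S.exists_IR y
        obtain ⟨b, hb, e⟩ := S.act' y hc.1 (x := s0) (by decide)
        refine (hc.1.mk'_eq (by decide)).trans (congrArg _ (S.toFr.cancel (app_lt _ _) (by decide) hb two_pos ?_).1)
        rw [← e, pow_zero, mul_one]; exact mul_inv_eq_iff_eq_mul.2 (mem_cent1.1 c)⟩)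
    simpa using mul_mem hw (q (w⁻¹ * y) (mul_mem (inv_mem hw.1) c) (by rw [map_mul, map_inv, e, inv_mul_cancel]))
  obtain ⟨y, hy, rfl⟩ := hy
  obtain ⟨a, ha, n⟩ := S.exA hg
  have r := (S.nx _ (S.τρ i4).2).1
  rcases memXs r hy with h | h
  · exact mem_cj.1 (k y c h).2
  have h1 := (memXs r (S.A0 i4 hg ⟨a, ha, rfl⟩)).resolve_left n
  have h2 := mem_cj.1 (k (a⁻¹ * y) (mul_mem (inv_mem (mem_cent1.2 (Q.hQ.zc _ ha))) c)
    (by simpa [mul_assoc] using mul_mem (inv_mem h1) h)).2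
  have h3 : g⁻¹ * a * g ∈ H0 μ := ⟨⟨_, map_subtype_le _ (mem_cj.1 ha)⟩, by
    rw [SetLike.mem_coe, mem_comap, (S.ker _).2 (mem_cj.1 ha)]; exact one_mem _, rfl⟩
  simpa [mul_assoc] using mul_mem h3 h2

theorem L1 (h4 : g * z * g⁻¹ ∈ twoCoreOfCentralizer z) (h5 : g * z * g⁻¹ ≠ z) {y : G} (hy : y ∈ H0 μ)
    (c : y ∈ C1[g * z * g⁻¹]) : g⁻¹ * y * g ∈ H0 μ := by
  obtain ⟨h, m, e⟩ := S.to_s0 h4 h5
  simpa [mul_assoc] using S.L0 i4 e ((S.cj0 i4 m).2 hy) (by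
    rw [← e, C1_conj] at *; simpa [mem_cj, mul_assoc] using c)

theorem exd : ∃ d : C1[z], d.1 * d = 1 ∧ μ d = tτ := by
  obtain ⟨k, hk, e⟩ := S.frat _ (S.τρ i4).1
  rcases S.eq_of_μ (k := k * k) (k' := 1) (mul_mem hk hk) (one_mem _) (by rw [map_mul, e, ττ, map_one]) with h | h
  · exact ⟨k, h, e⟩
  refine ⟨k * ⟨θ 16, S.θH (by norm_num)⟩, ?_, by rw [map_mul, S.μθ (by norm_num), mul_one, e]⟩
  have h1 := S.kact hk (e ▸ IRτ.1) (x := 16) (by norm_num)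
  rw [show J4T.kact cτ 16 = 16 by decide +kernel] at h1
  have h2 := S.toFr.sq (x := 16) (by norm_num)
  rw [show bt 16 16 = 1 by decide +kernel, pow_one] at h2
  have h3 : k.1 * θ 16 = θ 16 * k := mul_inv_eq_iff_eq_mul.1 h1
  simp only [coe_mul, coe_one, one_mul] at h ⊢
  rw [mul_assoc, ← mul_assoc (θ 16), ← h3, mul_assoc, h2, ← mul_assoc, h, S.toFr.zz]

theorem not_four (hres : pResidual 2 G = ⊤) : False := by
  obtain ⟨d, h2, e⟩ := S.exd i4
  have n : d.1 ∉ H0 μ := fun h => S.τXs' i4 (e ▸ (mem_map_iff_mem (subtype_injective _)).1 h)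
  have := normal_of_index_eq_two (S.j2 i4)
  have c1 := S.cA_ge d
  rw [e, fixτ] at c1
  set A := twoCoreOfCentralizer z ⊓ C1[d.1]
  have zA : z ∈ A := ⟨S.es.zQ, mem_cent1.2 (mem_cent1.1 d.2).symm⟩
  obtain ⟨g, h3, h4⟩ := Loc.thompson_transfer_cyclic (oddC S.le) (isCyclic_of_prime_card (p := 2) (S.j2 i4)) h2 d.2 n
    (map_subtype_le _) (Transfer.isPGroup_le_commutator_of_pResidual_eq_top hres
      (isPGroup_zpowers (j := 1) (by simpa [pow_two] using h2)) (mem_zpowers _)) (S.es.pg.to_le (inf_le_left : A ≤ _)) inf_le_right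
  have h8 : 8 < #(twoCoreOfCentralizer z) := by rw [S.card_E]; norm_num
  by_cases e1 : g * z * g⁻¹ = z
  · exact n ((S.cj0 i4 (mem_cent1.2 (mul_inv_eq_iff_eq_mul.1 e1))).1 h3)
  by_cases e2 : g * z * g⁻¹ ∈ twoCoreOfCentralizer z
  · exact n (by simpa [mul_assoc] using S.L1 i4 e2 e1 h3 (by rw [C1_conj, mem_cj]; simp [mul_assoc]))
  obtain ⟨m, h5⟩ := S.comm0 inf_le_left zA (le_trans (by norm_num) c1) h4
  obtain ⟨m', h6⟩ := S.comm0 (g := g⁻¹) inf_le_left ⟨S.es.zQ, mem_cent1.2 (mem_cent1.1 m).symm⟩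
    (S.cA ⟨_, m⟩ h5 (S.le.conj g).zz e2).1 (by rintro _ ⟨a, ha, rfl⟩; simpa using mem_cj.1 (C1_conj g z ▸ ha.2))
  have h7 := (S.cA ⟨_, m'⟩ h6 (S.le.conj g⁻¹).zz fun k => e2 (by simpa using mem_cj.1 (S.le.sym h8 k))).2
  have h9 := card_le_of_le (show A ≤ twoCoreOfCentralizer z ⊓ C1[g⁻¹ * z * g⁻¹⁻¹] from fun a ha =>
    ⟨ha.1, by rw [C1_conj]; exact mem_cj.2 (by simpa using h4 ⟨a, ha, rfl⟩)⟩)
  exact absurd (c1.trans (h9.trans h7)) (by norm_num)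
end

end St
end Cfsg.Agent.F24T.V
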