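import Cfsg.Agent.F24V.St
import Cfsg.Agent.Small.XsTr

/-! Fixed vectors; a weakly closed `z` is isolated when `C(z)/E = X0` (helper8): `St.wc`. -/

set_option autoImplicit false
set_option linter.unusedSectionVars false
set_option maxRecDepth 100000

namespace Cfsg.Agent.F24T.V
open Cfsg.Agent.Comp Subgroup Cfsg.Agent.BG LES MulAction J4T Known

noncomputable def nfix (g : GL') : ℕ := {v | g v = v}.ncard

theorem nfix_eq {c : ℕ} {g : GL'} (h : IR c g) : nfix g = countLt 4096 fun v => Nat.beq (app c v) v := by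
  rw [countLt_eq, ← Set.ncard_coe_finset, nfix]
  refine Set.ncard_congr (fun v _ => v.val) (fun v hv => ?_) (fun _ _ _ _ => XV.ext) fun v hv => ?_
  · simpa [← h.1.2, show g v = v from hv] using v.lt
  · simp only [Finset.coe_filter, Finset.mem_range, nbeq, Set.mem_ofPred_eq] at hv
    exact ⟨⟨v, hv.1⟩, XV.ext ((h.1.2 _).trans hv.2), rfl⟩

theorem nfix_conj (a g : GL') : nfix (a * g * a⁻¹) = nfix g := by
  rw [nfix, nfix, ← Set.ncard_image_of_injective {v | g v = v} a.injective]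
  congr 1; ext v
  obtain ⟨v, rfl⟩ := a.surjective v
  simp

theorem exP7 : ∃ P ≤ X0 ⊓ stabilizer GL' (XV.mk' 12 s0), #P = 2 ^ 7 ∧ Lists IR LT0 P :=
  sylP (B := [27, 1]) codesX0 [[5, 1, 2, 7, 1, 5, 6, 6, 4, 0], [4, 3, 7, 5, 3, 6, 5, 2], [2, 6, 4, 2, 1, 5, 6, 5, 7, 8],
    [10, 10, 10, 10], [10, 12, 14, 10]] (by decide) (by decide +kernel)

theorem toP7 {B : Subgroup GL'} (h : B ≤ X0) (pg : IsPGroup 2 B) : ∃ a : GL', ∀ b ∈ B, ∃ c ∈ LT0, IR c (a * b * a⁻¹) := by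
  obtain ⟨P, hP, c, l⟩ := exP7
  obtain ⟨a, -, e⟩ := exists_conj_le_sylow Nat.prime_two (hP.trans inf_le_left) h c card_X0 (by norm_num) pg
  exact ⟨a, fun b hb => l _ (e b hb)⟩

theorem fix256 {g : GL'} (h : g ∈ X0) (h2 : g * g = 1) (h1 : g ≠ 1) : nfix g = 256 := by
  obtain ⟨a, e⟩ := toP7 (zpowers_le.2 h) (isPGroup_zpowers (j := 1) (by simpa [pow_two] using h2))
  obtain ⟨c, hc, r⟩ := e g (mem_zpowers g)
  have k : forceL LT0 (fun l => allL l fun c => imp (Nat.beq (mulM c c) one12)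
    (bor (Nat.beq c one12) (Nat.beq (countLt 4096 fun v => Nat.beq (app c v) v) 256))) = true := by decide +kernel
  rw [forceL_eq, allL_iff] at k
  have := imp_iff.1 (k c hc) (nbeq.2 (isCanon_IR.canon (isGrp_IR.mul r r) (by rw [conj_mul, h2]; simpa using isGrp_IR.one)))
  rw [bor_eq, Bool.or_eq_true, nbeq, nbeq, ← nfix_eq r, nfix_conj] at this
  exact this.resolve_left fun e => h1 (conj_eq_one_iff.1 (isCanon_IR.func r (e ▸ isGrp_IR.one)))

theorem fixτ : nfix tτ = 1024 := (nfix_eq IRτ).trans (by decide +kernel)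

theorem comb {B : Subgroup GL'} (h : B ≤ X0) (pg : IsPGroup 2 B) {ζ : GL'} (hζ : ζ ∈ B)
    (sq : ∀ b ∈ B, b * b = 1 ∨ b * b = ζ) : #B ≤ 56 := by
  obtain ⟨a, e⟩ := toP7 h pg
  obtain ⟨d, hd, r⟩ := e ζ hζ
  have k : forceL LT0 (fun l => allL l fun d => Nat.ble (lenL (filterL
    (fun c => force (mulM c c) fun s => bor (Nat.beq s one12) (Nat.beq s d)) l)) 56) = true := by decide +kernel
  rw [forceL_eq, allL_iff] at k
  refine le_trans ?_ (nble.1 (k d hd))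
  rw [← card_cj a]
  refine Lists.card_le (R := IR) ?_ isCanon_IR.func
  rintro _ ⟨b, hb, rfl⟩
  obtain ⟨c, hc, r'⟩ := e b hb
  refine ⟨c, ?_, r'⟩
  rw [filterL_eq, List.mem_filter, force_eq, bor_eq, Bool.or_eq_true, nbeq, nbeq]
  have := isGrp_IR.mul r' r'
  rw [conj_mul] at this
  exact ⟨hc, (sq b hb).imp (fun e => isCanon_IR.canon this (by rw [e]; simpa using isGrp_IR.one))
    fun e => isCanon_IR.canon this (by rw [e]; exact r)⟩

variable {G : Type*} [Group G] [Finite G] {z p g : G}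

theorem idx_le' {K X : Subgroup G} {α : Type*} [Finite α] (f : X → α) (h : ∀ a b, f a = f b → (a⁻¹ * b).1 ∈ K) :
    K.relIndex X ≤ Nat.card α :=
  Nat.card_le_card_of_injective (fun q : X ⧸ K.subgroupOf X => f q.out) fun a b e => by
    rw [← a.out_eq', ← b.out_eq', QuotientGroup.eq]; exact h _ _ e

theorem E4 {Q : Subgroup G} (L : LE Q z) (w : ∀ g, g * z * g⁻¹ ∈ Q → g * z * g⁻¹ = z) (c : Commute (g * z * g⁻¹) z)
    (ne : g * z * g⁻¹ ≠ z) : #(Q ⊓ C1[g * z * g⁻¹] ⊓ cj g Q : Subgroup G) ≤ 4 := by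
  have L' := L.conj g
  have zP : z ∉ cj g Q := fun m => ne (by
    have := w g⁻¹ (by simpa using mem_cj.1 m)
    nth_rw 1 [← this]; group)
  have w' : ∀ q, q * (g * z * g⁻¹) * q⁻¹ ∈ cj g Q → Commute q (g * z * g⁻¹) := fun q m => by
    have := w (g⁻¹ * q * g) (by simpa [mul_assoc] using mem_cj.1 m)
    rw [← cj_eq_iff_comm]; nth_rw 2 [← this]; group
  generalize g * z * g⁻¹ = t at *
  generalize cj g Q = P at *
  set A := Q ⊓ C1[t]
  set E := A ⊓ P
  have tt := L'.zz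
  have zA : z ∈ A := ⟨L.zQ, mem_cent1.2 c.symm⟩
  let s : G → G := fun q => t * q * t⁻¹ * q⁻¹
  have sQ : ∀ q ∈ Q, s q ∈ Q := fun q hq => mul_mem (L.conj_mem c hq) (inv_mem hq)
  have co : ∀ a b, s (a * b) = s a * (a * s b * a⁻¹) := fun a b => by simp only [s]; group
  have sC : ∀ q ∈ Q, s q ∈ Q ⊓ C[A] := fun q hq => ⟨sQ q hq, fun a ha => by
    have h1 : s a = 1 := by simp [s, ← mem_cent1.1 ha.2]
    have h2 := co a q
    have h3 : s (a * q) = s q := by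
      rcases L.comm a ha.1 q hq with e | e <;> rw [mul_inv_eq_iff_eq_mul.1 e, co]
      · simp [h1]
      · rw [h1, mul_one, mul_inv_cancel, mul_one, co]; simp [s, c.eq]
    rw [h1, one_mul, h3] at h2
    exact mul_inv_eq_iff_eq_mul.1 h2.symm⟩
  have EC : E ≤ Q ⊓ C[A] := fun e he => ⟨he.1.1, fun a ha => by
    rcases L.comm a ha.1 e he.1.1 with k | k
    · exact mul_inv_eq_iff_eq_mul.1 k
    · exact absurd ((mul_mem_cancel_left (show e ∈ P from he.2)).1 (k ▸ L'.conj_mem (mem_cent1.1 ha.2) he.2)) zP⟩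
  let F : Subgroup G :=
    { carrier := {x | x ∈ Q ∧ (x ∈ E ∨ x * z ∈ E)}
      one_mem' := ⟨one_mem _, .inl (one_mem _)⟩
      mul_mem' := by
        rintro a b ⟨h1, ha⟩ ⟨h2, hb⟩
        refine ⟨mul_mem h1 h2, ?_⟩
        have e := (L.zc b h2).eq
        rcases ha with ha | ha <;> rcases hb with hb | hb <;> have m := mul_mem ha hb
        · exact .inl m
        · exact .inr (by rwa [mul_assoc])
        · exact .inr (by rwa [mul_assoc, e, ← mul_assoc])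
        · exact .inl (by rwa [e, mul_assoc, ← mul_assoc z, L.zz, one_mul] at m)
      inv_mem' := by
        rintro a ⟨h1, ha⟩
        refine ⟨inv_mem h1, ha.imp inv_mem fun ha => ?_⟩
        have := inv_mem ha
        rwa [(L.zc a h1).eq, mul_inv_rev, inv_eq_of_mul_eq_one_right L.zz] at this }
  have zF : z ∈ F := ⟨L.zQ, .inr (by rw [L.zz]; exact one_mem _)⟩
  have EF : E ≤ F := fun e he => ⟨he.1.1, .inl he⟩
  have FC : F ≤ Q ⊓ C[A] := fun x hx => hx.2.elim (@EC _) fun k =>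
    (mul_mem_cancel_right (show z ∈ Q ⊓ C[A] from ⟨L.zQ, fun a ha => (L.zc a ha.1).eq⟩)).1 (EC k)
  have cF : ∀ a ∈ Q, ∀ x ∈ Q, a * x * a⁻¹ ∈ F ↔ x ∈ F := fun a ha x hx => by
    rcases L.comm a ha x hx with e | e <;> rw [e]
    exact mul_mem_cancel_right zF
  let Q0 : Subgroup G :=
    { carrier := {q | q ∈ Q ∧ s q ∈ F}
      one_mem' := ⟨one_mem _, by simp [s]⟩
      mul_mem' := fun {a b} ha hb => ⟨mul_mem ha.1 hb.1, co a b ▸ mul_mem ha.2 ((cF a ha.1 _ (sQ b hb.1)).2 hb.2)⟩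
      inv_mem' := fun {a} ha => ⟨inv_mem ha.1, (cF a ha.1 _ (sQ _ (inv_mem ha.1))).1 ((mul_mem_cancel_left ha.2).1
        (by rw [← co]; simp [s]))⟩ }
  have i1 : Q0.relIndex Q ≤ F.relIndex (Q ⊓ C[A]) :=
    idx_le' (fun q => ((⟨s q, sC q q.2⟩ : (Q ⊓ C[A] : Subgroup G)) : _ ⧸ F.subgroupOf _)) fun a b e => ⟨(a⁻¹ * b).2, by
      have : (s a)⁻¹ * s b ∈ F := (QuotientGroup.eq (s := F.subgroupOf (Q ⊓ C[A]))).1 e
      rwa [show b.1 = a * (a⁻¹ * b).1 by simp, co, inv_mul_cancel_left, cF _ a.2 _ (sQ _ (a⁻¹ * b).2)] at this⟩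
  have sE : ∀ q ∈ Q, s q ∈ E → q ∈ A := fun q hq m => ⟨hq, mem_cent1.2 (w' q (by
    simpa [s, inv_eq_of_mul_eq_one_right tt, ← mul_assoc, tt] using mul_mem L'.zQ m.2))⟩
  have K : ∀ x ∈ Q0, ∀ y ∈ Q0, x ∉ A → y ∉ A → y * x ∉ A → ¬ Commute x (s y) := fun x hx y hy h1 h2 h3 k => h3 (by
    have m := mul_mem (hx.2.2.resolve_left (mt (sE x hx.1) h1)) (hy.2.2.resolve_left (mt (sE y hy.1) h2))
    rw [(L.zc _ hy.2.1).eq, mul_assoc, ← mul_assoc z, L.zz, one_mul] at m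
    have m' := sE _ (mul_mem hx.1 hy.1) (by rwa [co, cj_eq_iff_comm.2 k])
    have : y * x = y * (x * y) * y⁻¹ := by group
    rcases L.comm y hy.1 _ m'.1 with e | e <;> rw [this, e]
    exacts [m', mul_mem m' zA])
  have i2 : A.relIndex Q0 ≤ 4 := by
    by_contra hn
    have k : ∀ l : List G, l.length ≤ 4 → ∃ x ∈ Q0, ∀ t ∈ l, t⁻¹ * x ∉ A := fun l hl => by
      by_contra! k; exact hn ((idx_le l k).trans hl)
    obtain ⟨y, hy, a⟩ := k [1] (by simp)
    obtain ⟨x, hx, b⟩ := k [1, y⁻¹] (by simp)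
    obtain ⟨u, hu, d⟩ := k [1, y⁻¹, x⁻¹, (y * x)⁻¹] (by simp)
    simp only [List.forall_mem_cons, inv_inv, inv_one, one_mul] at a b d
    exact K _ (mul_mem hx hu) y hy d.2.2.1 a.1 (mul_assoc y x u ▸ d.2.2.2.1) (L.mul_comm_of hx.1 hu.1 (sQ y hy.1)
      (K x hx y hy b.1 a.1 b.2.1) (K u hu y hy d.1 a.1 d.2.1))
  have c1 := L.card_cent (A := A) inf_le_left zA
  have c2 := card_mul_relIndex FC
  have c3 := card_mul_relIndex (show Q0 ≤ Q from fun _ h => h.1)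
  have c4 := card_mul_relIndex (show A ≤ Q0 from fun a ha => ⟨ha.1, by simp [s, ← mem_cent1.1 ha.2]⟩)
  have c5 := card_mul_relIndex EF
  have c6 : E.relIndex F ≠ 1 := fun e => zP (relIndex_eq_one.1 e zF).2
  have c7 := relIndex_pos E F
  have p1 : 0 < #A := Nat.card_pos
  have p2 := relIndex_pos F (Q ⊓ C[A])
  have c8 : #Q ≤ #A * 4 * F.relIndex (Q ⊓ C[A]) := c3 ▸ c4 ▸ Nat.mul_le_mul (Nat.mul_le_mul_left _ i2) i1
  have c9 : #A * F.relIndex (Q ⊓ C[A]) * #F ≤ #A * F.relIndex (Q ⊓ C[A]) * 8 := by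
    rw [mul_assoc, mul_comm _ #F, c2, c1]; linarith
  have := Nat.le_of_mul_le_mul_left c9 (Nat.mul_pos p1 p2)
  have : #E * 2 ≤ #F := c5 ▸ Nat.mul_le_mul_left _ (by omega)
  omega

variable {θ : ℕ → G} {μ : centralizer ({z} : Set G) →* MulAut (XV 12)} {X : Subgroup (MulAut (XV 12))}

namespace St
variable (S : St X z p θ μ)
include S

theorem fix_iff (h : C1[z]) (v : XV 12) : μ h v = v ↔ h * θ v.val * h.1⁻¹ = θ v.val ∨ h * θ v.val * h.1⁻¹ = θ v.val * z := by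
  obtain ⟨c, hc⟩ := S.exists_IR h
  obtain ⟨b, hb, e⟩ := S.act' h hc.1 (v.lt.trans (show 2 ^ 12 < 8192 by norm_num))
  replace e : h * θ v.val * h.1⁻¹ = _ := e
  rw [XV.ext_iff, hc.1.2, e]
  refine ⟨fun k => by rw [k]; interval_cases b <;> simp, fun k => ?_⟩
  rcases k with k | k
  · exact (S.toFr.cancel (app_lt _ _) v.lt hb two_pos (by rw [k, pow_zero, mul_one])).1
  · exact (S.toFr.cancel (app_lt _ _) v.lt hb one_lt_two (by rw [k, pow_one])).1

theorem cA_le (h : C1[z]) : #(twoCoreOfCentralizer z ⊓ C1[h.1] : Subgroup G) ≤ 2 * nfix (μ h) := by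
  have : ((twoCoreOfCentralizer z ⊓ C1[h.1] : Subgroup G) : Set G) ⊆
      (fun v : XV 12 => θ v.val) '' {v | μ h v = v} ∪ (fun v : XV 12 => θ v.val * z) '' {v | μ h v = v} := by
    rintro q ⟨h1, h2⟩
    obtain ⟨x, hx, rfl⟩ := (S.core _).1 h1
    have e := mul_inv_eq_iff_eq_mul.2 (mem_cent1.1 h2).symm
    rcases split_z hx with k | ⟨v, k, rfl⟩
    · exact .inl ⟨⟨x, k⟩, (S.fix_iff h _).2 (.inl e), rfl⟩
    · rw [S.toFr.θz (by omega)] at e ⊢
      refine .inr ⟨⟨v, k⟩, (S.fix_iff h _).2 (.inl (mul_right_cancel (b := z) ?_)), rfl⟩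
      rw [← e, mul_assoc, ← (Commute.inv_left (mem_cent1.1 h.2)).eq.symm]; simp only [mul_assoc]
  refine (Set.ncard_le_ncard this).trans ((Set.ncard_union_le _ _).trans ?_)
  rw [two_mul]; exact add_le_add Set.ncard_image_le Set.ncard_image_le

theorem cA_ge (h : C1[z]) : nfix (μ h) ≤ #(twoCoreOfCentralizer z ⊓ C1[h.1] : Subgroup G) := by
  classical
  have l : ∀ v : XV 12, v.val < 8192 := fun v => v.lt.trans (by norm_num)
  have hz : Commute h.1 z := mem_cent1.1 h.2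
  obtain ⟨u, hu⟩ : ∃ u : XV 12, ∀ v : XV 12, h * θ v.val * h.1⁻¹ = θ v.val * z → h * θ u.val * h.1⁻¹ = θ u.val * z := by
    by_cases k : ∃ u : XV 12, h * θ u.val * h.1⁻¹ = θ u.val * z
    exacts [k.imp fun _ k _ _ => k, ⟨1, fun v e => absurd ⟨v, e⟩ k⟩]
  refine Set.ncard_le_ncard_of_injOn (fun v => if h * θ v.val * h.1⁻¹ = θ v.val then θ v.val else θ (v * u).val * z)
    (fun v hv => ?_) fun v _ v' _ e => ?_
  · split_ifs with k
    · exact ⟨S.θE (l v), mem_cent1.2 (mul_inv_eq_iff_eq_mul.1 k).symm⟩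
    have k1 := ((S.fix_iff h v).1 hv).resolve_left k
    have k2 : h * (θ v.val * θ u.val) * h.1⁻¹ = θ v.val * θ u.val := by
      rw [← conj_mul, k1, hu v k1, (S.toFr.cz (l u)).eq, mul_assoc, ← mul_assoc z, S.toFr.zz, one_mul]
    rw [S.toFr.mul' (l v) (l u)] at k2
    exact ⟨mul_mem (S.θE (l _)) S.es.zQ, mem_cent1.2 (Commute.mul_right (by
      simpa using Commute.mul_right (mul_inv_eq_iff_eq_mul.1 k2) (hz.pow_right (bt v.val u.val)).inv_right) hz).symm⟩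
  · have k : ∀ a b : XV 12, ∀ i < 2, ∀ j < 2, θ a.val * z ^ i = θ b.val * z ^ j → a = b ∧ i = j := fun a b i hi j hj e =>
      (S.toFr.cancel a.lt b.lt hi hj e).imp_left XV.ext
    dsimp only at e
    split_ifs at e
    · exact (k _ _ 0 two_pos 0 two_pos (by rw [e])).1
    · simpa using (k v (v' * u) 0 two_pos 1 one_lt_two (by simpa using e)).2
    · simpa using (k (v * u) v' 1 one_lt_two 0 two_pos (by simpa using e)).2
    · exact mul_right_cancel (k (v * u) (v' * u) 1 one_lt_two 1 one_lt_two (by simpa using e)).1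

theorem cA (h : C1[z]) (h0 : μ h ∈ X0) (h2 : h.1 * h = 1) (hn : h.1 ∉ twoCoreOfCentralizer z) :
    256 ≤ #(twoCoreOfCentralizer z ⊓ C1[h.1] : Subgroup G) ∧ #(twoCoreOfCentralizer z ⊓ C1[h.1] : Subgroup G) ≤ 512 := by
  have := fix256 h0 (by rw [← map_mul, show h * h = 1 from Subtype.ext h2, map_one]) (mt (S.ker h).1 hn)
  exact ⟨this ▸ S.cA_ge h, (S.cA_le h).trans (by rw [this])⟩

theorem wc (hX : X ≤ X0) (w : ∀ g, g * z * g⁻¹ ∈ twoCoreOfCentralizer z → g * z * g⁻¹ = z)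
    (c : Commute (g * z * g⁻¹) z) : g * z * g⁻¹ = z := by
  by_contra ne
  have h1 := E4 S.le w c ne
  have h2 := (S.cA ⟨_, mem_cent1.2 c⟩ (hX (S.μ_mem _)) (S.le.conj g).zz (mt (w g) ne)).1
  set A := twoCoreOfCentralizer z ⊓ C1[g * z * g⁻¹]
  let φ := μ.comp (((MulAut.conj g⁻¹).toMonoidHom.comp A.subtype).codRestrict C1[z] fun a => by
    simpa using mem_cj.1 (C1_conj g z ▸ a.2.2))
  have h3 := card_ker_mul φ
  have h4 : φ.ker = (A ⊓ cj g (twoCoreOfCentralizer z)).subgroupOf A := ext fun a =>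
    (S.ker _).trans (by simp [mem_subgroupOf, mem_cj])
  rw [h4, Nat.card_congr (subgroupOfEquivOfLe inf_le_left).toEquiv] at h3
  have h5 := comb (B := φ.range) (by rintro _ ⟨a, rfl⟩; exact hX (S.μ_mem _))
    ((S.es.pg.to_le (inf_le_left : A ≤ _)).of_surjective _ φ.rangeRestrict_surjective)
    ⟨⟨z, S.es.zQ, mem_cent1.2 c.symm⟩, rfl⟩ (by
      rintro _ ⟨a, rfl⟩
      rw [← map_mul]
      exact (S.es.sq a a.2.1).imp (fun e => by rw [show a * a = 1 from Subtype.ext e, map_one])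
        fun e => congrArg φ (Subtype.ext e))
  exact absurd (h2.trans (h3.ge.trans (Nat.mul_le_mul h5 h1))) (by norm_num)

end St
end Cfsg.Agent.F24T.V
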