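import Cfsg.Agent.F24V.Four
import Cfsg.Agent.S3300
import Cfsg.Agent.S5404
import Cfsg.Agent.F24U.End
import Cfsg.Agent.Invol.OddAut
import Cfsg.Agent.Invol.ZS

/-! Parrott's characterisation of `Fi₂₄'` and `Fi₂₄` (helper8): `base`, `Hp.sub`, `Hp.main`. -/

set_option autoImplicit false
set_option linter.unusedSectionVars false
set_option maxRecDepth 100000

namespace Cfsg.Agent.F24T.V
open Cfsg.Agent.Comp Subgroup Cfsg.Agent.BG LES MulAction J4T Known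

theorem gen0 {W : Subgroup GL'} (h : ∀ a ∈ X0, a ^ 15 = 1 → a ∈ W) : X0 ≤ W :=
  closure_le_of_words (L := mapL (evalW mulM invM one12 LX0) [[0], [2], [4], [8], [6, 0, 5]]) (fun c hc =>
    let ⟨g, a, b⟩ := isGrp_IR.mapW codesX0 _ c hc
    ⟨g, h g a (isCanon_IR.func (isGrp_IR.pow b 15) ((nbeq.1 (allL_iff.1 (by decide +kernel :
      allL (mapL (evalW mulM invM one12 LX0) [[0], [2], [4], [8], [6, 0, 5]]) (fun c =>
        Nat.beq (powC mulM one12 c 15) one12) = true) c hc)).symm ▸ isGrp_IR.one)), b⟩) [[8, 4, 1]] (by decide +kernel)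

variable {G : Type*} [Group G] [Finite G] {z p g : G}
variable {θ : ℕ → G} {μ : centralizer ({z} : Set G) →* MulAut (XV 12)} {X : Subgroup (MulAut (XV 12))}

theorem res_of {a : G} (h : a ^ 15 = 1) : a ∈ pResidual 2 G :=
  subset_closure (Nat.Coprime.coprime_dvd_left (orderOf_dvd_of_pow_eq_one h) (by norm_num))

namespace St
variable (S : St X z p θ μ)
include S

theorem μp : μ ⟨p, S.pH⟩ = wA := by
  obtain ⟨c, hc⟩ := S.exists_IR ⟨p, S.pH⟩
  refine hc.1.func (col_ext hc.1.1 IR_wA.1.1 (fun i hi => ?_) ▸ IR_wA.1)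
  obtain ⟨b, hb, e⟩ := S.act' _ hc.1 ((pow_lt12 hi).trans (show 4096 < 8192 by norm_num))
  have e' := S.toFr.pθ' (pow_lt12 hi)
  rw [← app_pow _ hi, ← app_pow _ hi]
  exact (S.toFr.cancel (app_lt _ _) (app_lt _ _) hb two_pos (by rw [← e, pow_zero, mul_one, ← e']; rfl)).1

theorem p16 (k : C1[z]) (h : μ k ^ 15 = 1) : k.1 ^ 16 ∈ pResidual 2 G := res_of (by
  have := S.es.sq _ ((S.ker (k ^ 15)).1 (by rw [map_pow, h]))
  rw [← pow_mul, show 16 * 15 = 30 * (2 * 4) from rfl, pow_mul, pow_mul (_ ^ 30), show 30 = 15 + 15 from rfl, pow_add]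
  rcases this with e | e <;> simp only [coe_pow] at e <;> rw [e] <;> simp [pow_two, S.toFr.zz])

theorem Qres : twoCoreOfCentralizer z ≤ pResidual 2 G := by
  have p3 : p ^ 3 = 1 := S.op ▸ pow_orderOf_eq_one p
  have hp : p ∈ pResidual 2 G := res_of (by rw [show 15 = 3 * 5 from rfl, pow_mul, p3, one_pow])
  have k : ∀ y ∈ twoCoreOfCentralizer z, y ∈ pResidual 2 G ∨ y * z ∈ pResidual 2 G := fun y hy => by
    let h : C1[z] := ⟨y, map_subtype_le _ hy⟩ * ⟨p, S.pH⟩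
    have e : μ h = wA := by rw [map_mul, (S.ker _).2 hy, one_mul, S.μp]
    have e3 : μ h ^ 15 = 1 := by
      rw [e, ← S.μp, ← map_pow, show 15 = 3 * 5 from rfl, pow_mul, show (⟨p, S.pH⟩ : C1[z]) ^ 3 = 1 from Subtype.ext p3]; simp
    obtain ⟨x, hx, e1⟩ := (S.core _).1 ((S.ker (h ^ 15)).1 (by rw [map_pow, e3]))
    have c : Commute h.1 (θ x) := e1 ▸ Commute.self_pow h.1 15
    have hz : Commute h.1 z := mem_cent1.1 h.2
    have e2 : x % 4096 = 0 := congrArg XV.val (W_fpf (mem_zpowers wA) wA_ne (v := ⟨x % 4096, Nat.mod_lt _ (by norm_num)⟩)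
      (e ▸ (S.fix_iff h _).2 (.inl (mul_inv_eq_iff_eq_mul.2 (by
        rcases S.θmod hx with e | e <;> rw [e] at c
        exacts [c, Commute.eq (by simpa [mul_assoc] using c.mul_right hz.inv_right)])))))
    have m := mul_mem (S.p16 h e3) (inv_mem hp)
    rw [pow_succ, show h.1 ^ 15 = θ x from e1.symm, show h.1 = y * p from rfl, mul_assoc, mul_inv_cancel_right] at m
    rcases S.θmod hx with e | e <;> rw [e, e2, S.toFr.θ0, one_mul] at m
    exacts [.inl m, .inr ((S.es.zc y hy).eq ▸ m)]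
  have n : ∀ y ∈ twoCoreOfCentralizer z, ∃ y' ∈ pResidual 2 G, ∀ a ∈ twoCoreOfCentralizer z, y' * a * y'⁻¹ = y * a * y⁻¹ :=
    fun y hy => (k y hy).elim (fun h => ⟨y, h, fun _ _ => rfl⟩) fun h => ⟨_, h, fun a ha => by
      rw [mul_assoc y, ← (S.es.zc a ha).eq]; group⟩
  obtain ⟨a, ha, b, hb, h⟩ := S.es.nab
  obtain ⟨a', h1, h2⟩ := n a ha
  have : z ∈ pResidual 2 G := by
    have := mul_mem (Normal.conj_mem inferInstance _ h1 b⁻¹) (inv_mem h1)
    rwa [inv_inv, mul_assoc, mul_assoc, ← mul_assoc a', h2 b hb, S.es.conj_of_not ha hb h, inv_mul_cancel_left] at this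
  exact fun y hy => (k y hy).elim id fun h => (mul_mem_cancel_right this).1 h

theorem Kres (k : C1[z]) (h : μ k ∈ X0) : k.1 ∈ pResidual 2 G := by
  obtain ⟨w, hw, e⟩ := gen0 (W := ((pResidual 2 G).subgroupOf C1[z]).map μ) (fun a ha h => by
    obtain ⟨k, rfl⟩ := S.range.ge (S.lo ha)
    exact ⟨k ^ 16, S.p16 k h, by rw [map_pow, pow_succ, h, one_mul]⟩) h
  simpa using mul_mem (show w.1 ∈ _ from hw) (S.Qres ((S.ker (w⁻¹ * k)).1 (by rw [map_mul, map_inv, e, inv_mul_cancel])))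

theorem idxK : (X0.comap μ).index = X0.relIndex X := by rw [index_comap, S.range]

theorem base (hres : pResidual 2 G = ⊤) (c : Commute (g * z * g⁻¹) z) (ne : g * z * g⁻¹ ≠ z) :
    X0.relIndex X = 2 ∧ ∃ g, g * z * g⁻¹ ∈ twoCoreOfCentralizer z ∧ g * z * g⁻¹ ≠ z := by
  have n : (X0.subgroupOf X).Normal := (normal_subgroupOf_iff_le_normalizer S.lo).2 fun g hg => (S.nx g hg).1
  have h1 : X0.relIndex X ≠ 1 := fun e => by
    have l := relIndex_eq_one.1 e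
    refine ne (S.wc l (fun g h4 => by_contra fun h5 => ?_) c)
    obtain ⟨h, -, e⟩ := S.to_s0 h4 h5
    obtain ⟨a, -, n⟩ := S.exA e
    exact n (l (S.μ_mem a))
  have h3 : X0.relIndex X ≠ 3 := fun e => h1 (relIndex_eq_one.2 fun a ha => by
    have := pow_index_mem (H := X0.subgroupOf X) ⟨a, ha⟩
    rw [show index _ = 3 from e, mem_subgroupOf, coe_pow, pow_succ, pow_two] at this
    exact (mul_mem_cancel_left (S.sqX ha)).1 this)
  have h4 : X0.relIndex X ≠ 4 := fun e => S.not_four e hres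
  have h5 := S.idx4
  have h6 := relIndex_pos X0 X
  have h2 : X0.relIndex X = 2 := by omega
  have i : ((X0.comap μ).map C1[z].subtype).relIndex C1[z] = 2 := by
    rw [relIndex, subgroupOf, comap_map_eq_self_of_injective (subtype_injective _), S.idxK, h2]
  refine ⟨h2, S3300.result hres z S.toFr.oz _ rfl S.es.isExtraspecial S.cent 6 (by norm_num) S.card_E _ (map_subtype_le _)
    (fun h hh => ?_) i⟩
  exact mem_normalizer_iff_map_conj_eq.1
    ((normal_subgroupOf_iff_le_normalizer (map_subtype_le _)).1 (normal_of_index_eq_two i) hh)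
end St

/-- the hypotheses. -/
structure Hp (z : G) (M K : Subgroup C1[z]) [M.Normal] [K.Normal] : Prop where
  L : LE (twoCoreOfCentralizer z) z
  c : #(pCore 2 C1[z]) = 2 ^ 13
  JM : pCore 2 C1[z] ≤ M
  MK : M ≤ K
  cM : #M = 3 * #(pCore 2 C1[z])
  e : Nonempty (K ⧸ M.subgroupOf K ≃* U43P.G)

namespace Hp
variable {M K : Subgroup C1[z]} [M.Normal] [K.Normal] (h : Hp z M K)
include h

theorem ext : IsExtraspecial 2 (pCore 2 C1[z]) :=
  PGrp.ES_of_mulEquiv h.L.toES.isExtraspecial (equivMapOfInjective _ _ (subtype_injective _)).symm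

theorem st : ∃ p θ μ X, St X z p θ μ ∧ X0.comap μ = K :=
  haveI := Loc.pCore_normal' 2 C1[z]
  exists_St h.L rfl h.ext h.c h.JM h.MK h.cM h.e

theorem fs : generalizedFittingSubgroup C1[z] = pCore 2 C1[z] := Loc.chP_iff_sub.1 fun g hg => by
  rcases h.L.cQ g fun y hy => (hg.2 y hy).symm with rfl | rfl
  exacts [one_mem _, h.L.zQ]

theorem sub {N : Subgroup G} [N.Normal] (hz : z ∈ N) (hK : ∀ k ∈ K, k.1 ∈ N) :
    ∃ (M' K' : Subgroup C1[(⟨z, hz⟩ : N)]) (_ : M'.Normal) (_ : K'.Normal), Hp (⟨z, hz⟩ : N) M' K' ∧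
      K.index = K'.index * N.relIndex C1[z] ∧
      (twoCoreOfCentralizer (⟨z, hz⟩ : N)).map N.subtype = twoCoreOfCentralizer z := by
  have m : ∀ a : N, a ∈ C1[(⟨z, hz⟩ : N)] ↔ a.1 ∈ C1[z] := fun a => by simp only [mem_cent1, Subtype.ext_iff]; rfl
  let φ : C1[(⟨z, hz⟩ : N)] →* C1[z] := (N.subtype.comp (Subgroup.subtype _)).codRestrict _ fun a => (m a).1 a.2
  have i : Function.Injective φ := fun a b e => Subtype.ext (Subtype.ext (congrArg (fun x : C1[z] => x.1) e))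
  have r : φ.range = N.subgroupOf C1[z] := Subgroup.ext fun a =>
    ⟨by rintro ⟨a, rfl⟩; exact a.1.2, fun k => ⟨⟨⟨a, k⟩, (m _).2 a.2⟩, rfl⟩⟩
  have KN : K ≤ φ.range := fun k hk => r.ge (hK k hk)
  have QN : twoCoreOfCentralizer z ≤ N := by rintro _ ⟨a, ha, rfl⟩; exact hK a (h.MK (h.JM ha))
  have q : (twoCoreOfCentralizer (⟨z, hz⟩ : N)).map N.subtype = twoCoreOfCentralizer z := by
    have : C1[(⟨z, hz⟩ : N)].map N.subtype = C1[z] ⊓ N := by
      rw [← subgroupOf_map_subtype]; congr 1; exact Subgroup.ext m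
    refine (Loc.pCoreOf_map_subtype _).trans (this ▸ (Loc.pCoreOf_eq_inf_of_normal inf_le_left (fun g hg =>
      mem_normalizer_fintype fun a ha => ⟨C1[z].mul_mem (C1[z].mul_mem hg ha.1) (C1[z].inv_mem hg), Normal.conj_mem inferInstance _ ha.2 g⟩)).trans ?_)
    exact inf_eq_left.2 (le_inf (map_subtype_le _) QN)
  have q' : ∀ a : N, a ∈ twoCoreOfCentralizer (⟨z, hz⟩ : N) ↔ a.1 ∈ twoCoreOfCentralizer z := fun a => by
    rw [← q]; exact (mem_map_iff_mem (subtype_injective _)).symm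
  have J : pCore 2 C1[(⟨z, hz⟩ : N)] = (pCore 2 C1[z]).comap φ := Subgroup.ext fun a =>
    (mem_map_iff_mem (subtype_injective _)).symm.trans ((q' a).trans (mem_map_iff_mem (x := φ a) (subtype_injective _)))
  have cc : ∀ A ≤ K, #(A.comap φ) = #A := fun A hA => by
    rw [← card_map_of_injective i, map_comap_eq_self (hA.trans KN)]
  let ε : K.comap φ ≃* K := MulEquiv.ofBijective (φ.subgroupComap K)
    ⟨fun a b e => Subtype.ext (i (congrArg Subtype.val e)), fun k => let ⟨a, e⟩ := KN k.2; ⟨⟨a, mem_comap.2 (e.symm ▸ k.2)⟩, Subtype.ext e⟩⟩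
  obtain ⟨e⟩ := h.e
  refine ⟨M.comap φ, K.comap φ, inferInstance, inferInstance, ⟨LE.of_core (orderOf_mk .. |>.trans h.L.z2) ?_ fun a ha => ?_,
    by rw [J, cc _ (h.JM.trans h.MK), h.c], J ▸ comap_mono h.JM, comap_mono h.MK,
    by rw [J, cc _ (h.JM.trans h.MK), cc _ h.MK, h.cM], ⟨(QuotientGroup.congr _ _ ε ?_).trans e⟩⟩, ?_, q⟩
  · exact PGrp.ES_of_mulEquiv (q ▸ h.L.toES.isExtraspecial) (equivMapOfInjective _ _ (subtype_injective _)).symm
  · refine (q' a).2 ?_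
    rcases h.L.cQ a fun y hy => congrArg Subtype.val (ha ⟨y, QN hy⟩ ((q' _).2 hy)).symm with e | e <;> rw [e]
    exacts [one_mem _, h.L.zQ]
  · rw [map_equiv_eq_comap_symm]; ext k
    obtain ⟨k, rfl⟩ := ε.surjective k
    simp only [mem_comap, MonoidHom.coe_coe, MulEquiv.symm_apply_apply, mem_subgroupOf]; rfl
  · rw [index_comap, show N.relIndex _ = _ from congrArg index r.symm, relIndex_mul_index KN]

theorem nine : ∃ (F : Type) (_ : Field F) (_ : Fintype F), Fintype.card F = 9 ∧ Nonempty (K ⧸ M.subgroupOf K ≃* PSU 4 F 3) := by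
  let := Fintype.ofFinite (GaloisField 3 2)
  have c : Fintype.card (GaloisField 3 2) = 9 := by rw [← Nat.card_eq_fintype_card, GaloisField.card 3 2 (by decide)]; rfl
  obtain ⟨e⟩ := U43T.equiv c
  obtain ⟨e'⟩ := h.e
  exact ⟨_, _, _, c, ⟨e'.trans e.symm⟩⟩

theorem base (hres : pResidual 2 G = ⊤) (c : Commute (g * z * g⁻¹) z) (ne : g * z * g⁻¹ ≠ z) : K.index = 2 ∧
    ∃ g : G, (∃ hq : g * z * g⁻¹ ∈ C1[z], (⟨g * z * g⁻¹, hq⟩ : C1[z]) ∈ pCore 2 C1[z]) ∧ g * z * g⁻¹ ≠ z := by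
  obtain ⟨p, θ, μ, X, S, rfl⟩ := h.st
  obtain ⟨h1, g, h2, h3⟩ := S.base hres c ne
  exact ⟨S.idxK.trans h1, g, ⟨map_subtype_le _ h2, (mem_map_iff_mem (subtype_injective _)).1 h2⟩, h3⟩

theorem main : C1[z] ⊔ oddCore G = ⊤ ∨ (K.index = 2 ∧ Spor.IsoFi24' G) ∨
    (K.index = 4 ∧ (∀ x : C1[z] ⧸ K, x ^ 2 = 1) ∧ Nonempty (G ≃* Spor.Fi24)) := by
  refine or_iff_not_imp_left.2 fun n => ?_
  obtain ⟨g, c, ne⟩ : ∃ g, Commute (g * z * g⁻¹) z ∧ g * z * g⁻¹ ≠ z := by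
    by_contra! i
    refine n (eq_top_iff.2 fun g _ => ?_)
    obtain ⟨o, ho, c, hc, rfl⟩ := Invol.Isolated.factor ⟨h.L.z2, fun g c => i _ c.symm⟩ g
    exact mul_mem (mem_sup_right ho) (mem_sup_left (mem_cent1.2 hc))
  have := Loc.pCore_normal' 2 C1[z]
  by_cases hres : pResidual 2 G = ⊤
  · obtain ⟨h1, h2⟩ := h.base hres c ne
    exact .inl ⟨h1, F24U.iso24 ⟨⟨h.L.z2, h.fs, h.ext, h.c, h2⟩, M, K, ‹_›, ‹_›, h.JM, h.MK, h.cM, h.nine, h1⟩⟩
  obtain ⟨p, θ, μ, X, S, e⟩ := h.st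
  have hz := S.Qres h.L.zQ
  obtain ⟨M', K', _, _, h', i, q⟩ := h.sub hz fun k hk => S.Kres k (e.ge hk)
  have t : pResidual 2 G ⊔ C1[z] = ⊤ := by
    obtain ⟨k, hk⟩ := Transfer.exists_index_pResidual (G := G) (p := 2)
    exact index_eq_one.1 (Nat.eq_one_of_dvd_coprimes (Nat.Coprime.pow_left k (Nat.coprime_two_left.2 (oddC h.L)))
      (hk ▸ index_dvd_of_le le_sup_left) (index_dvd_of_le le_sup_right))
  obtain ⟨a, ha, b, hb, rfl⟩ := mem_sup_of_normal_left.1 (t.ge (mem_top g))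
  have e1 : a * b * z * (a * b)⁻¹ = a * z * a⁻¹ := by rw [mul_assoc a, mem_cent1.1 hb]; group
  rw [e1] at c ne
  obtain ⟨h1, h2⟩ := h'.base (g := ⟨a, ha⟩) (Invol.pResidual_two_eq_top_iff.2 Invol.pResidual_no_index_two)
    (Subtype.ext c.eq) fun e => ne (congrArg Subtype.val e)
  rw [← relIndex_sup_left, t, relIndex_top_right, h1] at i
  have h3 := S.idx4
  have h4 := relIndex_pos X0 X
  have h5 := mt index_eq_one.1 hres
  rw [← S.idxK, e] at h3 h4
  have h6 : (pResidual 2 G).index = 2 := by omega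
  obtain ⟨F, _, _, c9, ⟨ε⟩⟩ := h'.nine
  have := Loc.pCore_normal' 2 C1[(⟨z, hz⟩ : pResidual 2 G)]
  obtain ⟨P, h7, h8⟩ := sylC h'.L
  obtain ⟨ψ⟩ := S5404.main _ h6 ⟨z, hz⟩ h'.L.z2 _ M' K' h'.fs h'.ext h'.c h'.JM h'.MK h'.cM F c9 ε h1 h2 ⟨P, h7 h'.L.zQ, h8⟩
    (by rw [h.fs]; exact q.symm)
  refine .inr ⟨by omega, fun x => ?_, ⟨ψ.symm⟩⟩
  obtain ⟨x, rfl⟩ := QuotientGroup.mk_surjective x
  rw [← QuotientGroup.mk_pow, QuotientGroup.eq_one_iff, ← e, mem_comap, map_pow, pow_two]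
  exact S.sqX (S.μ_mem x)

end Hp
end Cfsg.Agent.F24T.V
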