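import Cfsg.Agent.F24T.A1

/-! The frame `St` of `F24T` without the order of `C(z)`: the image `X` lies between `X0` and `X0.2²` (helper8). -/

set_option autoImplicit false
set_option linter.unusedSectionVars false

namespace Cfsg.Agent.F24T.V
open Cfsg.Agent.Comp Subgroup Cfsg.Agent.BG LES MulAction J4T Known

theorem idx_le {G : Type*} [Group G] {K X : Subgroup G} (l : List G) (h : ∀ g ∈ X, ∃ t ∈ l, t⁻¹ * g ∈ K) :
    K.relIndex X ≤ l.length := by
  choose f h1 h2 using fun q : X ⧸ K.subgroupOf X => (h _ q.out.2).imp fun t ht => And.imp_left List.mem_iff_get.1 ht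
  choose i hi using h1
  refine (Nat.card_le_card_of_injective i fun a b e => ?_).trans (by simp)
  rw [← a.out_eq', ← b.out_eq', QuotientGroup.eq]
  have := mul_mem (inv_mem (h2 a)) (h2 b)
  rw [← hi, ← hi, e] at this
  simpa [mem_subgroupOf, mul_assoc] using this

noncomputable def tτ : GL' := el cτ
noncomputable def tκ : GL' := el cκ
noncomputable def tρ : GL' := el cρ
theorem IRτ : IR cτ tτ := IR_el (by decide +kernel)
theorem IRκ : IR cκ tκ := IR_el (by decide +kernel)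
theorem IRρ : IR cρ tρ := IR_el (by decide +kernel)

theorem top' {g0 : GL'} (nX : g0 ∈ normalizer (X0 : Set GL')) (hW : g0 * wA * g0⁻¹ ∈ zpowers wA) :
    ∃ t ∈ [1, tτ, tκ, tρ], g0 * t⁻¹ ∈ X0 := by
  have := Fact.mk Nat.prime_three
  obtain ⟨x, hx, h1⟩ := exists_conj_le_sylow (K := X0) (P := T0) (Q := T0.map (MulAut.conj g0).toMonoidHom) Nat.prime_three
    T0_X0 (by rintro _ ⟨t, ht, rfl⟩; exact Comp.conj_mem_of_norm nX (T0_X0 ht)) card_T0 card_X0 (by norm_num)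
    ((IsPGroup.of_card card_T0).map _)
  have nX' := mul_mem (le_normalizer hx) nX
  have hW' : x * g0 * wA * (x * g0)⁻¹ ∈ zpowers wA := by
    obtain ⟨k, e⟩ := hW
    rw [show x * g0 * wA * (x * g0)⁻¹ = x * (g0 * wA * g0⁻¹) * x⁻¹ by group, ← e,
      mul_inv_eq_iff_eq_mul.2 (Commute.zpow_right (mem_Cw.1 (X0_Cw hx)) k).eq]
    exact ⟨k, rfl⟩
  suffices ∃ t ∈ [1, tτ, tκ, tρ], x * g0 * t⁻¹ ∈ X0 from
    this.imp fun t ht => ⟨ht.1, (mul_mem_cancel_left hx).1 (mul_assoc x _ _ ▸ ht.2)⟩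
  have hT : x * g0 ∈ normalizer (T0 : Set GL') := mem_normalizer_fintype fun t ht => by
    simpa [mul_assoc] using h1 _ ⟨t, ht, rfl⟩
  generalize x * g0 = g at nX' hW' hT
  have fin : ∀ {c n t t'}, t' ∈ [1, tτ, tκ, tρ] → IR c t' → IR c t → n ∈ X0 → g = n * t →
      ∃ t ∈ [1, tτ, tκ, tρ], g * t⁻¹ ∈ X0 :=
    fun hc h' ht hn' e => ⟨_, hc, by rwa [e, isCanon_IR.func h' ht, mul_inv_cancel_right]⟩
  rcases sq_Cw hW' with hw | hw
  · obtain ⟨n, hn', e | ⟨t, ht, e⟩⟩ := mono_X0 hw hT nX'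
    exacts [⟨1, by simp, by simpa [e] using hn'⟩, fin (by simp) IRτ ht hn' e]
  · obtain ⟨k, hk⟩ := exists_of_okI (c := cκ) (by decide +kernel)
    have k1 : k * wA = wA * wA * k := isCanon_IR.func (isGrp_IR.mul hk IR_wA)
      ((by decide +kernel : mulM cκ cW = mulM (mulM cW cW) cκ).symm ▸ isGrp_IR.mul (isGrp_IR.mul IR_wA IR_wA) hk)
    have k2 : IR cκ k⁻¹ := (by decide +kernel : invM cκ = cκ) ▸ hk.inv
    obtain ⟨n, hn', e | ⟨t, ht, e⟩⟩ := mono_X0 (Nw.mul_mem_Cw hw k1)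
      (mul_mem hT (norm_of_code (isGrp_IR.slpW [[5], [7], [9], [11], [13]] (pc3_spec okT).1) hk (by decide +kernel)))
      (mul_mem nX' (norm_of_code (L := LX0) (isGrp_IR.slpW [[1], [7], [9]] codesX0) hk (by decide +kernel)))
    · exact fin (by simp) IRκ k2 hn' (eq_mul_inv_of_mul_eq e)
    · exact fin (c := cρ) (by simp) IRρ ((by decide +kernel : mulM cτ cκ = cρ) ▸ isGrp_IR.mul ht k2) hn'
        (by rw [← mul_assoc, ← e, mul_inv_cancel_right])

variable {G : Type*} [Group G] {z p : G} {θ : ℕ → G}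

/-- `H = C(z) = E·N_H(p)` acts on `E/⟨z⟩` through `μ`, with kernel `E` and image `X`. -/
structure St (X : Subgroup (MulAut (XV 12))) (z p : G) (θ : ℕ → G)
    (μ : centralizer ({z} : Set G) →* MulAut (XV 12)) : Prop extends Fr z p θ where
  core : ∀ g, g ∈ twoCoreOfCentralizer z ↔ ∃ x < 8192, θ x = g
  cent : centralizer (twoCoreOfCentralizer z : Set G) ≤ twoCoreOfCentralizer z
  act : ∀ (h : centralizer ({z} : Set G)) (c : ℕ), MR 12 c (μ h) → ∀ x < 8192,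
    h * θ x * h⁻¹ = θ (app c x) ∨ h * θ x * h⁻¹ = θ (app c x ^^^ 4096)
  ker : ∀ h : centralizer ({z} : Set G), μ h = 1 ↔ h.1 ∈ twoCoreOfCentralizer z
  range : μ.range = X
  oq : X ≤ OQ
  lo : X0 ≤ X
  nx : ∀ g ∈ X, g ∈ normalizer (X0 : Set GL') ∧ g * wA * g⁻¹ ∈ zpowers wA
  frat : ∀ g ∈ X, ∃ k : centralizer ({z} : Set G), k.1 ∈ normalizer (zpowers p : Set G) ∧ μ k = g

namespace St
variable {μ : centralizer ({z} : Set G) →* MulAut (XV 12)} {X : Subgroup (MulAut (XV 12))} (S : St X z p θ μ)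
include S

theorem θE {x : ℕ} (hx : x < 8192) : θ x ∈ twoCoreOfCentralizer z := (S.core _).2 ⟨x, hx, rfl⟩
theorem θH {x : ℕ} (hx : x < 8192) : θ x ∈ centralizer ({z} : Set G) :=
  mem_centralizer_singleton_iff.2 (S.toFr.cz hx).eq
theorem pH : p ∈ centralizer ({z} : Set G) := mem_centralizer_singleton_iff.2 S.toFr.pz.eq
theorem zH : z ∈ centralizer ({z} : Set G) := mem_centralizer_singleton_iff.2 rfl
theorem μθ {x : ℕ} (hx : x < 8192) : μ ⟨θ x, S.θH hx⟩ = 1 := (S.ker _).2 (S.θE hx)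
theorem μ_mem (h : centralizer ({z} : Set G)) : μ h ∈ X := S.range ▸ ⟨h, rfl⟩
theorem exists_IR (h : centralizer ({z} : Set G)) : ∃ c, IR c (μ h) := J4T.exists_IR (S.oq (S.μ_mem h))

theorem act' (h : centralizer ({z} : Set G)) {c : ℕ} (hc : MR 12 c (μ h)) {x : ℕ} (hx : x < 8192) :
    ∃ b < 2, h * θ x * h⁻¹ = θ (app c x) * z ^ b := by
  rcases S.act h c hc x hx with e | e
  · exact ⟨0, by norm_num, by simpa using e⟩
  · exact ⟨1, by norm_num, by rw [e, S.toFr.θz (app_lt' _ _), pow_one]⟩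

theorem kact [Finite G] {k : centralizer ({z} : Set G)} (hk : k.1 ∈ normalizer (zpowers p : Set G)) {c : ℕ}
    (hc : MR 12 c (μ k)) {x : ℕ} (hx : x < 8192) : k * θ x * k⁻¹ = θ (J4T.kact c x) :=
  S.toFr.kact_of (mem_centralizer_singleton_iff.1 k.2) ((mem_normalizer_iff.1 hk p).1 (mem_zpowers p))
    (fun x hx => S.act' k hc (by omega)) hx

theorem card_E : Nat.card (twoCoreOfCentralizer z) = 8192 := by
  have : Function.Bijective fun x : Fin 8192 => (⟨θ x, S.θE x.2⟩ : twoCoreOfCentralizer z) :=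
    ⟨fun x y e => Fin.ext (S.inj _ x.2 _ y.2 (congrArg Subtype.val e)), fun g => by
      obtain ⟨x, hx, e⟩ := (S.core _).1 g.2; exact ⟨⟨x, hx⟩, Subtype.ext e⟩⟩
  rw [← Nat.card_eq_of_bijective _ this]; simp

theorem es : LES.ES (twoCoreOfCentralizer z) z := by
  have F := S.toFr
  refine ⟨F.oz, F.hz ▸ S.θE (by norm_num), fun y hy => ?_, fun x hx h => ?_, fun x hx y hy => ?_, fun x hx => ?_,
    θ 1, S.θE (by norm_num), θ 2, S.θE (by norm_num), by rw [F.comm_iff (by norm_num) (by norm_num)]; decide +kernel⟩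
  · obtain ⟨x, hx, rfl⟩ := (S.core _).1 hy; exact F.cz hx
  · obtain ⟨x, hx', rfl⟩ := (S.core _).1 hx
    have key : ∀ v < 4096, (∀ i < 12, bf v (2 ^ i) = 0) → v = 0 := fun v hv h => by
      rw [← pack_bf v hv]
      exact (pack_congr (v' := fun _ => 0) fun i hi => h _ (by interval_cases i <;> decide)).trans
        (by decide +kernel)
    have h' : ∀ i < 12, bf x (2 ^ i) = 0 := fun i hi =>
      have := (pow_lt12 hi).trans (show 4096 < 8192 by norm_num)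
      (F.comm_iff hx' this).1 (h _ (S.θE this))
    rcases split_z hx' with hv | ⟨v, hv, rfl⟩
    · left; rw [key x hv h', F.θ0]
    · right
      rw [key v hv fun i hi => by simpa only [bf_eq, bt_xor, bt_xor', bt_z, bt_z', Nat.xor_zero] using h' i hi,
        Nat.zero_xor, F.hz]
  · obtain ⟨x, hx', rfl⟩ := (S.core _).1 hx
    obtain ⟨y, hy', rfl⟩ := (S.core _).1 hy
    rw [F.conjE hx' hy', F.θb hy' (bf_lt _ _)]
    have := bf_lt x y
    generalize bf x y = b at *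
    interval_cases b <;> simp
  · obtain ⟨x, hx', rfl⟩ := (S.core _).1 hx
    rw [F.sq hx']
    have := bt_lt x x
    generalize bt x x = b at *
    interval_cases b <;> simp

theorem le [Finite G] : LES.LE (twoCoreOfCentralizer z) z :=
  LES.LE.of_core S.toFr.oz S.es.isExtraspecial S.cent

/-- an element of `H` centralising `E` is `1` or `z`. -/
theorem eq_of_cent [Finite G] {g : G} (h : ∀ x < 8192, g * θ x * g⁻¹ = θ x) : g = 1 ∨ g = z :=
  S.le.cQ g fun y hy => by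
    obtain ⟨x, hx, rfl⟩ := (S.core _).1 hy; exact mul_inv_eq_iff_eq_mul.1 (h x hx)

/-- elements of `N_H(p)` with the same matrix agree up to `z`. -/
theorem eq_of_μ [Finite G] {k k' : centralizer ({z} : Set G)} (hk : k.1 ∈ normalizer (zpowers p : Set G))
    (hk' : k'.1 ∈ normalizer (zpowers p : Set G)) (e : μ k = μ k') : k.1 = k' ∨ k.1 = k' * z := by
  obtain ⟨c, hc⟩ := S.exists_IR k
  rcases S.eq_of_cent (g := k'.1⁻¹ * k.1) (fun x hx => by
    have h1 := S.kact hk hc.1 hx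
    have h2 := S.kact hk' (e ▸ hc.1) hx
    rw [← h2] at h1
    have : k'.1⁻¹ * k.1 * θ x * (k'.1⁻¹ * k.1)⁻¹ = k'.1⁻¹ * (k * θ x * k⁻¹) * k' := by simp [mul_assoc]
    rw [this, h1]; simp [mul_assoc]) with h | h
  · left; rw [inv_mul_eq_one.1 h]
  · right; exact inv_mul_eq_iff_eq_mul.1 h


theorem four {g : GL'} (hg : g ∈ X) : ∃ t ∈ [1, tτ, tκ, tρ], t ∈ X ∧ t⁻¹ * g ∈ X0 := by
  obtain ⟨t, h1, h2⟩ := top' (S.nx g hg).1 (S.nx g hg).2
  have m : t ∈ X := by simpa using mul_mem (inv_mem (S.lo h2)) hg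
  exact ⟨t, h1, m, by simpa [mul_assoc] using Comp.conj_mem_of_norm (inv_mem (S.nx t m).1) h2⟩

theorem idx4 : X0.relIndex X ≤ 4 := idx_le _ fun _ hg => (S.four hg).imp fun _ h => ⟨h.1, h.2.2⟩

theorem sqX {g : GL'} (hg : g ∈ X) : g * g ∈ X0 := by
  obtain ⟨t, h1, h2, h3⟩ := S.four hg
  have s : t * t = 1 := by
    simp only [List.mem_cons, List.not_mem_nil, or_false] at h1
    rcases h1 with rfl | rfl | rfl | rfl
    exacts [mul_one _, isCanon_IR.func (isGrp_IR.mul IRτ IRτ) ((by decide +kernel : mulM cτ cτ = one12).symm ▸ isGrp_IR.one),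
      isCanon_IR.func (isGrp_IR.mul IRκ IRκ) ((by decide +kernel : mulM cκ cκ = one12).symm ▸ isGrp_IR.one),
      isCanon_IR.func (isGrp_IR.mul IRρ IRρ) ((by decide +kernel : mulM cρ cρ = one12).symm ▸ isGrp_IR.one)]
  have := mul_mem (Comp.conj_mem_of_norm (inv_mem (S.nx t h2).1) h3) h3
  rw [inv_eq_of_mul_eq_one_right s] at this
  simpa [← mul_assoc, s, inv_eq_of_mul_eq_one_right s, mul_assoc g t t] using this

variable [Finite G]

theorem θmod {x : ℕ} (hx : x < 8192) : θ x = θ (x % 4096) ∨ θ x = θ (x % 4096) * z := by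
  rcases split_z hx with h | ⟨v, hv, rfl⟩
  · rw [Nat.mod_eq_of_lt h]; exact Or.inl rfl
  · rw [show (v ^^^ 4096) % 4096 = v from (Nat.xor_mod_two_pow (n := 12)).trans (by
      rw [Nat.mod_eq_of_lt hv]; exact Nat.xor_zero v), S.toFr.θz (by omega)]; exact Or.inr rfl

theorem ne_of {s : ℕ} (hs : s < 4096) (h0 : s ≠ 0) : θ s ≠ 1 ∧ θ s ≠ z :=
  ⟨fun e => h0 (S.inj _ (by omega) _ (by omega) (e.trans S.toFr.θ0.symm)),
    fun e => by have := S.inj _ (by omega) _ (by omega) (e.trans S.hz.symm); omega⟩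

theorem conj_of {s x : ℕ} (hs : s < 4096) (h0 : s ≠ 0) (hx : x < 8192) {a : MulAut (XV 12)} (ha : a ∈ X)
    (h : (a (XV.mk' 12 s)).val = x % 4096) : ∃ k : centralizer ({z} : Set G), μ k = a ∧ k * θ s * k⁻¹ = θ x := by
  obtain ⟨k, rfl⟩ := S.range.ge ha
  obtain ⟨c, hc⟩ := S.exists_IR k
  obtain ⟨q, hq, e⟩ := S.es.exists_conj (S.θE (x := s) (by omega)) (S.ne_of hs h0).1 (S.ne_of hs h0).2
  obtain ⟨y, hy, rfl⟩ := (S.core _).1 hq
  have h1 : k * θ s * k⁻¹ = θ x ∨ k * θ s * k⁻¹ = θ x * z := by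
    rw [hc.1.mk'_eq hs, XV.mk'_val (app_lt _ _)] at h
    rcases S.act k c hc.1 s (by omega) with e | e <;> rcases S.θmod hx with e' | e' <;> rw [e] <;>
      simp [e', h, S.toFr.θz (show x % 4096 < 8192 by omega), mul_assoc, S.toFr.zz]
  rcases h1 with h1 | h1
  · exact ⟨k, rfl, h1⟩
  · refine ⟨k * ⟨_, S.θH hy⟩, by rw [map_mul, S.μθ hy, mul_one], ?_⟩
    have := mem_centralizer_singleton_iff.1 k.2
    calc _ = k * (θ y * θ s * (θ y)⁻¹) * (k : G)⁻¹ := by simp [mul_assoc]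
      _ = k * θ s * (k : G)⁻¹ * (k * z * (k : G)⁻¹) := by rw [e]; group
      _ = _ := by rw [this, mul_inv_cancel_right, show (k : G) * θ s * (k : G)⁻¹ = _ from h1, mul_assoc, S.toFr.zz, mul_one]

theorem inv_E (hX : X0 ≤ X) {x : ℕ} (hx : x < 8192) (h0 : x ≠ 0) (h1 : x ≠ 4096) (hq : bt x x = 0) :
    ∃ h ∈ centralizer ({z} : Set G), h * θ x * h⁻¹ = θ s0 ∨ h * θ x * h⁻¹ = θ x0 := by
  have k2 : bt (x % 4096) (x % 4096) = 0 := by
    rcases split_z hx with h | ⟨v, hv, rfl⟩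
    · rwa [Nat.mod_eq_of_lt h]
    · rw [show (v ^^^ 4096) % 4096 = v from (Nat.xor_mod_two_pow (n := 12)).trans (by
        rw [Nat.mod_eq_of_lt hv]; exact Nat.xor_zero v)]
      simpa [bt_xor, bt_xor', bt_z, bt_z'] using hq
  have f : ∀ {s n}, s < 4096 → s ≠ 0 → x % 4096 ∈ orbV LX0 n s → ∃ h ∈ centralizer ({z} : Set G), h * θ x * h⁻¹ = θ s :=
    fun hs s1 h => by
      obtain ⟨a, ha, e⟩ := orbV_reach codesX0.toMR hs h
      obtain ⟨k, -, e⟩ := S.conj_of hs s1 hx (hX ha) e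
      exact ⟨_, inv_mem k.2, by rw [← e]; simp [mul_assoc]⟩
  rcases orbsX (x % 4096) (by omega) k2 (by omega) with h | h
  · exact (f (by decide) (by decide) h).imp fun _ h => ⟨h.1, Or.inl h.2⟩
  · exact (f (by decide) (by decide) h).imp fun _ h => ⟨h.1, Or.inr h.2⟩

section
variable {g : G} {s : ℕ} (hs : s < 4096) (h0 : s ≠ 0) (hg : g * z * g⁻¹ = θ s)
include hs h0 hg

theorem pair : Pair (cj g (twoCoreOfCentralizer z)) (twoCoreOfCentralizer z) (θ s) z := by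
  have := S.le.pair (g := g) (by rw [S.card_E]; norm_num) (hg ▸ S.θE (by omega)) (hg ▸ (S.ne_of hs h0).2)
  rw [hg] at this; exact this.symm

theorem D_comm {a b : G} (ha : a ∈ twoCoreOfCentralizer z ⊓ cj g (twoCoreOfCentralizer z))
    (hb : b ∈ twoCoreOfCentralizer z ⊓ cj g (twoCoreOfCentralizer z)) : Commute a b := by
  by_contra h
  exact (S.pair hs h0 hg).ne (mul_left_cancel ((S.es.conj_of_not ha.1 hb.1 h).symm.trans
    ((S.pair hs h0 hg).hQ.conj_of_not ha.2 hb.2 h)))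

theorem card_D : #(twoCoreOfCentralizer z ⊓ cj g (twoCoreOfCentralizer z)) ≤ 128 := by
  have h1 := S.es.card_cent (A := _ ⊓ cj g _) inf_le_left ⟨S.es.zQ, (S.pair hs h0 hg).sQ⟩
  have h2 := Nat.mul_le_mul_left #(twoCoreOfCentralizer z ⊓ cj g (twoCoreOfCentralizer z)) (card_le_of_le
    (le_inf inf_le_left fun a ha b hb => (S.D_comm hs h0 hg hb ha).eq :
      _ ≤ twoCoreOfCentralizer z ⊓ C[twoCoreOfCentralizer z ⊓ cj g (twoCoreOfCentralizer z)]))
  rw [h1, S.card_E] at h2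
  nlinarith

theorem card_AB : #(twoCoreOfCentralizer z ⊓ cj g (twoCoreOfCentralizer z)) * #(AB μ g) = 4096 := by
  have P := S.pair hs h0 hg
  obtain ⟨q, hq, e⟩ := P.exq
  have h1 : C1[z].relIndex (cj g (twoCoreOfCentralizer z)) = 2 := relIndex_eq_two_iff.2 ⟨q, hq, fun b hb => by
    simp only [mem_centralizer_singleton_iff, ← mul_inv_eq_iff_eq_mul]
    have h2 : b * q * z * (b * q)⁻¹ = b * z * b⁻¹ * θ s := by
      rw [show b * q * z * (b * q)⁻¹ = b * (q * z * q⁻¹) * b⁻¹ by group, e, ← mul_assoc, mul_assoc (b * z),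
        ← (P.hQ.zc _ (inv_mem hb)).eq, mul_assoc (b * z)]
    rw [h2]
    rcases P.hQ.comm b hb z P.sQ with h | h <;> simp [h, P.hQ.z1, mul_assoc, P.hQ.zz]⟩
  have h2 := (C1[z].subgroupOf (cj g (twoCoreOfCentralizer z))).card_mul_index
  rw [card_cj, S.card_E, show index _ = 2 from h1, ← inf_subgroupOf_right,
    Nat.card_congr (subgroupOfEquivOfLe inf_le_right).toEquiv,
    ← Nat.card_congr (subgroupOfEquivOfLe inf_le_left).toEquiv, inf_subgroupOf_left] at h2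
  have h3 := (μ.comp ((cj g (twoCoreOfCentralizer z)).subgroupOf _).subtype).ker.card_mul_index
  have h4 : twoCoreOfCentralizer z ⊓ cj g (twoCoreOfCentralizer z) ≤ C1[z] := inf_le_left.trans (map_subtype_le _)
  rw [index_ker, MonoidHom.range_comp, range_subtype, show (μ.comp _).ker = ((twoCoreOfCentralizer z ⊓
      cj g (twoCoreOfCentralizer z)).subgroupOf _).subgroupOf _ from ext fun a => (S.ker _).trans (and_iff_left a.2).symm,
    Nat.card_congr (subgroupOfEquivOfLe (subgroupOf_mono _ inf_le_right)).toEquiv,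
    Nat.card_congr (subgroupOfEquivOfLe h4).toEquiv] at h3
  exact h3.trans (Nat.eq_of_mul_eq_mul_right two_pos h2)

theorem lists_AB {K P : Subgroup (MulAut (XV 12))} (hK : K ≤ X) (hP : P ≤ K ⊓ stabilizer _ (XV.mk' 12 s)) {k : ℕ}
    (c1 : #P = 2 ^ k) (c2 : ¬ 2 ^ (k + 1) ∣ #(K ⊓ stabilizer _ (XV.mk' 12 s))) {l L : List ℕ} (hl : Lists IR l P)
    (hL : CodesIn IR L K) {w : List ℕ} (hw : app (evalW mulM invM one12 L w) s = s) :
    Lists IR (surv l L w) (AB μ g ⊓ K) := by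
  have Q := S.pair hs h0 hg
  have h1 : ∀ t ∈ K ⊓ stabilizer _ (XV.mk' 12 s), ∀ a ∈ AB μ g ⊓ K, t * a * t⁻¹ ∈ AB μ g ⊓ K := by
    rintro t ht _ ⟨⟨a, ha, rfl⟩, hk⟩
    refine ⟨?_, K.mul_mem (K.mul_mem ht.1 hk) (K.inv_mem ht.1)⟩
    obtain ⟨k, rfl, e⟩ := S.conj_of hs h0 (x := s) (by omega) (hK ht.1) (by
      rw [show t _ = _ from ht.2, XV.mk'_val hs, Nat.mod_eq_of_lt hs])
    exact ⟨k * a * k⁻¹, Q.hQ.conj_mem (mul_inv_eq_iff_eq_mul.1 e) ha, by simp⟩
  have h2 : ∀ {a : C1[z]}, a.1 = 1 ∨ a.1 = θ s → μ a = 1 := fun h => (S.ker _).2 (by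
    rcases h with h | h <;> rw [h]; exacts [one_mem _, Q.zP])
  have h3 : ∀ a ∈ AB μ g ⊓ K, a * a = 1 := by rintro _ ⟨⟨a, ha, rfl⟩, -⟩; rw [← map_mul]; exact h2 (Q.hQ.sq _ ha)
  have h4 : AB μ g ⊓ K ≤ K ⊓ stabilizer _ (XV.mk' 12 s) := by
    rintro _ ⟨⟨a, ha, rfl⟩, hk⟩
    obtain ⟨c, hc⟩ := S.exists_IR a
    obtain ⟨b, hb, e⟩ := S.act' a hc.1 (x := s) (by omega)
    refine ⟨hk, (hc.1.mk'_eq hs).trans (congrArg _ (S.toFr.cancel (app_lt _ _) hs hb two_pos ?_).1)⟩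
    rw [← e, pow_zero, mul_one]; exact mul_inv_eq_iff_eq_mul.2 (Q.hQ.zc _ ha).eq
  obtain ⟨t, ht, h5⟩ := exists_conj_le_sylow Nat.prime_two hP h4 c1 rfl c2
    fun a => ⟨1, Subtype.ext (by simpa [pow_two] using h3 _ a.2)⟩
  obtain ⟨τ, hτ, h6⟩ := isGrp_IR.evalW_mem hL w
  rw [surv, force_eq]
  refine hl.filter (fun a ha => by simpa [mul_assoc] using h5 _ (h1 _ (inv_mem ht) a ha)) fun c a ha hc => ?_
  have h7 := h1 τ ⟨hτ, (h6.1.mk'_eq hs).trans (congrArg _ hw)⟩ a ha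
  simp only [band_eq, Bool.and_eq_true, nbeq]
  exact ⟨isCanon_IR.canon (isGrp_IR.mul hc hc) (h3 a ha ▸ isGrp_IR.one), (commC_iff isGrp_IR isCanon_IR hc
    (isGrp_IR.conj h6 hc)).1 (Invol.commute_of_mul_sq (h3 a ha) (h3 _ h7) (h3 _ (mul_mem ha h7)))⟩

omit hs h0 hg in
theorem AB_le : AB μ g ≤ X := by rintro _ ⟨a, -, rfl⟩; exact S.μ_mem a

theorem le_AB : 32 ≤ #(AB μ g) := by
  have h2 := S.card_AB hs h0 hg
  have := S.card_D hs h0 hg
  nlinarith
end

theorem not_fused : ¬ IsConj z (θ x0) := fun h => by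
  obtain ⟨g, hg⟩ := isConj_iff.1 h
  have hX := S.lo
  obtain ⟨P, hP, c, l⟩ := sylP (l := fixL LT0 x0) (B := [5, 6]) (s := x0) (k := 6) codesX0 [[6, 3, 0, 7, 4, 7, 0, 6, 1],
    [1, 5, 1, 6, 2, 5, 6, 1, 4], [6, 6, 0, 7, 2, 5, 7, 1], [10, 10, 14, 10, 10]] (by decide) (by decide +kernel)
  have h1 := (S.lists_AB (by decide) (by decide) hg hX hP c
    (by rw [show x0 = 3584 from rfl, sgsX0.stab.card_eq]; decide +kernel) l codesX0 (w := [0, 2, 0])
    (by decide +kernel)).card_le isCanon_IR.func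
  rw [show lenL _ = 1 by decide +kernel] at h1
  have h2 := S.le_AB (by decide) (by decide) hg
  have h3 := Solv.card_inf_mul_relIndex X0 (AB μ g)
  have h4 := S.idx4
  have h5 := relIndex_le_of_le_right (H := X0) (S.AB_le (g := g)) (relIndex_pos _ _).ne'
  rw [inf_comm] at h3
  have := Nat.mul_le_mul h1 h5
  omega

theorem fused (h : ∃ g, g * z * g⁻¹ ∈ twoCoreOfCentralizer z ∧ g * z * g⁻¹ ≠ z) :
    ∃ g, g * z * g⁻¹ = θ s0 := by
  obtain ⟨g, h4, h5⟩ := h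
  obtain ⟨x, hx, e⟩ := (S.core _).1 h4
  have o : orderOf (θ x) = 2 := e ▸ (Invol.orderOf_conj' g z).trans S.toFr.oz
  obtain ⟨h, -, h6 | h6⟩ := S.inv_E S.lo hx (by rintro rfl; exact Invol.ne_one_of o S.toFr.θ0)
    (by rintro rfl; exact h5 (e.symm.trans S.hz)) (by
      have := (S.toFr.sq hx).symm.trans (Invol.mul_self_of o)
      have l := bt_lt x x
      interval_cases bt x x
      exacts [rfl, absurd ((pow_one z).symm.trans this) S.toFr.z1])
  · exact ⟨h * g, by rw [← h6, e]; group⟩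
  · exact absurd (isConj_iff.2 ⟨h * g, by rw [← h6, e]; group⟩) S.not_fused

end St

variable [Finite G] {Q : Subgroup (centralizer ({z} : Set G))} [Q.Normal]

theorem exists_St {N M : Subgroup (centralizer ({z} : Set G))} [N.Normal] [M.Normal] (L : LE (twoCoreOfCentralizer z) z)
    (hE : Q.map (Subgroup.subtype _) = twoCoreOfCentralizer z) (hQ : IsExtraspecial 2 Q) (hc : Nat.card Q = 2 ^ 13)
    (QN : Q ≤ N) (NM : N ≤ M) (cN : Nat.card N = 3 * Nat.card Q) (eU : Nonempty (M ⧸ N.subgroupOf M ≃* U43P.G)) :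
    ∃ p θ μ X, St X z p θ μ ∧ X0.comap μ = M := by
  have hi := (centralizer ({z} : Set G)).subtype_injective
  have mQ : ∀ h : centralizer ({z} : Set G), h.1 ∈ twoCoreOfCentralizer z ↔ h ∈ Q := fun h => by
    rw [← hE]; exact mem_map_iff_mem hi
  replace hc : Nat.card Q = 8192 := hc
  have := Fact.mk Nat.prime_three
  obtain ⟨⟨p, pN⟩, op⟩ := exists_prime_orderOf_dvd_card' (G := N) 3 (Dvd.intro _ cN.symm)
  rw [orderOf_mk] at op
  have cP : Nat.card (zpowers p) = 3 := by rw [Nat.card_zpowers, op]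
  have pQ : p ∉ Q := fun h => by simpa [cP, hc] using card_dvd_of_le (zpowers_le.2 h)
  have N_eq : Q ⊔ zpowers p = N := by
    refine eq_of_le_of_card_ge (sup_le QN (zpowers_le.2 pN)) (Nat.le_of_dvd Nat.card_pos ?_)
    rw [cN, hc]
    exact Nat.Coprime.mul_dvd_of_dvd_of_dvd (by norm_num) (cP ▸ card_dvd_of_le le_sup_right)
      (hc ▸ card_dvd_of_le le_sup_left)
  rw [← hE] at L
  let z' : centralizer ({z} : Set G) := ⟨z, mem_centralizer_singleton_iff.2 rfl⟩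
  have h1 (y) : Commute y z' := Subtype.ext (mem_centralizer_singleton_iff.1 y.2)
  obtain ⟨μ0, k0, f0⟩ := exists_μ0 h1 (ES.of_mem hQ ((mem_map_iff_mem hi).1 L.zQ) (fun e => L.z1 (congrArg Subtype.val e))
    fun y _ => mem_centralizer_singleton_iff.2 (h1 y).eq) hc (fun x hx => (L.cQ x (by
      rintro _ ⟨y, hy, rfl⟩; exact congrArg Subtype.val (hx y hy).eq)).imp Subtype.ext Subtype.ext)
    fun x hx => (mQ x).1 ⟨x, hx, rfl⟩
  obtain ⟨u0, -, hu0⟩ := conj_X0 μ0 k0 op pQ N_eq NM eU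
  have fp := f0 p fun v hv => u0.map_eq_one_iff.1 (W_fpf hu0 (by simpa using mt (k0 p).1 pQ) (by simp [hv]))
  rw [hE] at L
  have pz : Commute p.1 z := mem_centralizer_singleton_iff.1 p.2
  have cE : Nat.card (twoCoreOfCentralizer z) = 8192 := by rw [← hE, card_map_of_injective hi, hc]
  obtain ⟨θ, F, core⟩ := exists_Fr L.toES ((orderOf_coe p).trans op) pz (fun x hx => L.conj_mem pz hx) (by
    rw [← hE]; rintro _ ⟨x, hx, rfl⟩ h
    exact (fp x hx (Subtype.ext h.eq)).imp (congrArg Subtype.val) (congrArg Subtype.val)) cE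
  obtain ⟨μ, hμ⟩ := F.exists_μ fun g x hx =>
    (core _).1 (L.conj_mem (mem_centralizer_singleton_iff.1 g.2) ((core _).2 ⟨x, hx, rfl⟩))
  obtain ⟨hO, ker, μp⟩ := F.μ_facts hμ core L
  replace μp : μ p = wA := μp
  obtain ⟨u, uO, uw, hu⟩ : ∃ u ∈ OQ, Commute u wA ∧ ∀ y, y ∈ X0 ↔ u * y * u⁻¹ ∈ M.map μ := by
    obtain ⟨u, h2, h3⟩ := conj_X0 μ (fun h => (ker h).trans (mQ h)) op pQ N_eq NM eU
    have h4 : u⁻¹ ∈ OQ := form fun x hx => by
      obtain ⟨m, -, e⟩ := (h2 x).1 (N0_le hx)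
      rw [inv_inv, ← e]; exact hO m
    rcases sq_Cw (μp ▸ h3) with h | h
    · exact ⟨u⁻¹, h4, mem_Cw.1 (inv_mem h), by simpa using h2⟩
    · obtain ⟨k, hk⟩ := exists_of_okI (c := cκ) (by decide +kernel)
      have k1 : k * wA = wA * wA * k := isCanon_IR.func (isGrp_IR.mul hk IR_wA)
        ((by decide +kernel : mulM cκ cW = mulM (mulM cW cW) cκ).symm ▸ isGrp_IR.mul (isGrp_IR.mul IR_wA IR_wA) hk)
      have k2 := norm_of_code (L := LX0) (isGrp_IR.slpW [[1], [7], [9]] codesX0) hk (by decide +kernel)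
      refine ⟨(k * u)⁻¹, by simpa using mul_mem h4 (inv_mem hk.2), mem_Cw.1 (inv_mem (Nw.mul_mem_Cw k1 h)), fun y => ?_⟩
      exact (mem_normalizer_iff.1 (inv_mem k2) y).trans ((h2 _).trans (by simp [mul_assoc]))
  obtain ⟨cu, hcu⟩ := exists_IR uO
  obtain ⟨θ', F', hθ', core'⟩ := F.change hcu uw
  let μ' := (MulAut.conj u⁻¹).toMonoidHom.comp μ
  have μ'_eq : ∀ x, μ' x = u⁻¹ * μ x * u := fun x => by simp [μ']
  have μ'p : μ' p = wA := by rw [μ'_eq, μp, mul_assoc, ← uw.eq]; simp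
  have ker' : ∀ g, μ' g = 1 ↔ g.1 ∈ twoCoreOfCentralizer z := fun g => by
    rw [← ker, μ'_eq]; simp [mul_eq_one_iff_eq_inv, inv_mul_eq_iff_eq_mul]
  have hN' : N ≤ (zpowers wA).comap μ' := N_eq ▸ sup_le (fun x hx => by simp [(ker' x).2 ((mQ x).2 hx)])
    (zpowers_le.2 (by simp [μ'p]))
  have hX : M.map μ' = X0 := Subgroup.ext fun y => Iff.trans
    ⟨by rintro ⟨m, hm, rfl⟩; exact ⟨m, hm, by simp [μ'_eq, mul_assoc]⟩,
      fun ⟨m, hm, e⟩ => ⟨m, hm, by simp [μ'_eq, e, mul_assoc]⟩⟩ (hu y).symm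
  refine ⟨p, θ', μ', μ'.range, ⟨F', fun g => (core g).trans (core' g).symm, fun g hg => ?_, fun g c hc x hx => ?_, ker', rfl,
    ?_, hX ▸ map_le_range _ _, ?_, fun g hg => ?_⟩,
    by rw [← hX, comap_map_eq, sup_eq_left.2 fun x hx => NM (QN ((mQ x).1 ((ker' x).1 hx)))]⟩
  · rcases L.cQ g fun y hy => (hg y hy).symm with rfl | rfl
    exacts [one_mem _, L.zQ]
  · have gz : Commute g.1 z := mem_centralizer_singleton_iff.1 g.2
    have hz : ∀ b y, g.1 * (y * z ^ b) * g.1⁻¹ = g.1 * y * g.1⁻¹ * z ^ b := fun b y => by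
      rw [mul_assoc (g.1 * y), ((gz.pow_right b).inv_left).eq]; group
    have key : ∀ v < 4096, ∃ b < 2, g.1 * θ' v * g.1⁻¹ = θ' (app c v) * z ^ b := fun v hv => by
      obtain ⟨b, hb, e⟩ := hμ g (u ⟨v, hv⟩)
      have e1 : (μ g (u ⟨v, hv⟩)).val = app cu (app c v) := by
        rw [← hc.2 ⟨v, hv⟩, ← hcu.1.2, μ'_eq]; simp
      rw [e1, hcu.1.2] at e
      refine ⟨_, xlt2 (xlt2 (ell_lt cu (app c v)) hb) (ell_lt cu v), ?_⟩
      rw [hθ' v hv, hθ' _ (app_lt _ _), hz, e, F.zxor (xlt2 (ell_lt _ _) hb) (ell_lt _ _), F.zxor (ell_lt _ _) hb]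
      simp only [mul_assoc]
      rw [← mul_assoc (z ^ ell _ _), F.zbb, one_mul]
    have key2 : ∃ b < 2, g.1 * θ' x * g.1⁻¹ = θ' (app c x) * z ^ b := by
      rcases split_z hx with h | ⟨v, h, rfl⟩
      · exact key x h
      · obtain ⟨b, hb, e⟩ := key v h
        refine ⟨_, xlt2 hb one_lt_two, ?_⟩
        have := hz 1 (θ' v)
        rw [pow_one] at this
        rw [F'.θz (by omega), this, e, app_xor, app_z, Nat.xor_zero, F.zxor hb one_lt_two, mul_assoc, pow_one]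
    obtain ⟨b, hb, e⟩ := key2
    interval_cases b
    · left; simpa using e
    · right; rw [F'.θz (app_lt' _ _)]; simpa using e
  · rintro _ ⟨x, rfl⟩
    exact μ'_eq x ▸ mul_mem (mul_mem (inv_mem uO) (hO x)) uO
  · rintro _ ⟨x, rfl⟩
    refine ⟨mem_normalizer_fintype fun y hy => ?_, by simpa [μ'p] using hN' (‹N.Normal›.conj_mem p pN x)⟩
    obtain ⟨m, hm, rfl⟩ := hX.ge hy
    exact hX.le ⟨_, ‹M.Normal›.conj_mem m hm x, by simp⟩
  · obtain ⟨x, rfl⟩ := hg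
    obtain ⟨n, hn, e⟩ := exists_conj_le_sylow (K := N) (P := zpowers p) (Q := zpowers (x * p * x⁻¹)) (k := 1)
      Nat.prime_three (zpowers_le.2 pN) (zpowers_le.2 (‹N.Normal›.conj_mem p pN x)) cP
      (cN.trans (by rw [hc])) (by norm_num) (isPGroup_zpowers (j := 1) (by rw [conj_pow, pow_one, ← op]; simp))
    obtain ⟨j, hj⟩ := hN' hn
    obtain ⟨i, hi⟩ := e _ (mem_zpowers _)
    refine ⟨(p ^ j)⁻¹ * (n * x), mul_mem (le_normalizer (inv_mem (zpow_mem (mem_zpowers p.1) j)))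
      (mem_normalizer_zpowers ⟨i, by simpa [mul_assoc] using congrArg Subtype.val hi⟩), ?_⟩
    rw [map_mul, map_mul, map_inv, map_zpow, μ'p, ← hj]; simp

end Cfsg.Agent.F24T.V
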